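import Mathlib.GroupTheory.Sylow
import Mathlib.Algebra.Group.MinimalAxioms
import Mathlib.GroupTheory.FiniteAbelian.Basic
import Mathlib.GroupTheory.GroupAction.Quotient
import Mathlib.Data.ZMod.Basic
import Mathlib.Algebra.Field.ZMod
import Mathlib.GroupTheory.SpecificGroups.Cyclic
import Mathlib.Tactic.LinearCombination
import Mathlib.Tactic.Group

/-!
# A central extension over an inverted abelian Sylow subgroup

A bilinear map on a Sylow subgroup that is fixed by the fusion `x ↦ x⁻¹` is transferred to a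
cocycle of the group, and on the Sylow subgroup it keeps its commutator form up to the index.
-/

set_option autoImplicit false
set_option linter.style.haveILetI false

namespace CfsgLib.PermGroups

universe u

/-- A normalised cocycle with values in `ZMod p`. -/
structure CenCocycle (G : Type u) [Group G] (p : ℕ) where
  /-- the values -/
  val : G → G → ZMod p
  one_left : ∀ g, val 1 g = 0
  one_right : ∀ g, val g 1 = 0
  assoc : ∀ g h k, val g h + val (g * h) k = val h k + val g (h * k)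

/-- The central extension of a cocycle. -/
structure CenExt {G : Type u} [Group G] {p : ℕ} (c : CenCocycle G p) where
  /-- the image in the group -/
  g : G
  /-- the central coordinate -/
  a : ZMod p

namespace CenExt

variable {G : Type u} [Group G] {p : ℕ} {c : CenCocycle G p}

theorem ext' {x y : CenExt c} (h : x.g = y.g) (h' : x.a = y.a) : x = y := by
  cases x; cases y; cases h; cases h'; rfl

instance : Mul (CenExt c) := ⟨fun x y => ⟨x.g * y.g, x.a + y.a + c.val x.g y.g⟩⟩
instance : One (CenExt c) := ⟨⟨1, 0⟩⟩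
instance : Inv (CenExt c) := ⟨fun x => ⟨x.g⁻¹, -x.a - c.val x.g⁻¹ x.g⟩⟩

instance : Group (CenExt c) :=
  Group.ofLeftAxioms
    (fun x y z => ext' (mul_assoc x.g y.g z.g) (by
      show x.a + y.a + c.val x.g y.g + z.a + c.val (x.g * y.g) z.g =
        x.a + (y.a + z.a + c.val y.g z.g) + c.val x.g (y.g * z.g)
      linear_combination c.assoc x.g y.g z.g))
    (fun x => ext' (one_mul x.g) (by
      show 0 + x.a + c.val 1 x.g = x.a
      rw [c.one_left]; ring))
    (fun x => ext' (inv_mul_cancel x.g) (by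
      show -x.a - c.val x.g⁻¹ x.g + x.a + c.val x.g⁻¹ x.g = 0
      ring))

instance [Finite G] [NeZero p] : Finite (CenExt c) :=
  Finite.of_injective (fun x : CenExt c => (x.g, x.a)) fun _ _ e =>
    ext' (congrArg Prod.fst e) (congrArg Prod.snd e)

/-- The projection. -/
def proj (c : CenCocycle G p) : CenExt c →* G where
  toFun x := x.g
  map_one' := rfl
  map_mul' _ _ := rfl

theorem proj_surjective : Function.Surjective (proj c) := fun g => ⟨⟨g, 0⟩, rfl⟩

theorem mem_ker {x : CenExt c} : x ∈ (proj c).ker ↔ x.g = 1 := Iff.rfl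

theorem ker_le_center : (proj c).ker ≤ Subgroup.center (CenExt c) := by
  intro x hx
  rw [Subgroup.mem_center_iff]
  intro y
  have hx1 : x.g = 1 := hx
  refine ext' (show y.g * x.g = x.g * y.g by rw [hx1, mul_one, one_mul]) ?_
  show y.a + x.a + c.val y.g x.g = x.a + y.a + c.val x.g y.g
  rw [hx1, c.one_left, c.one_right]; ring

theorem card_ker : Nat.card (proj c).ker = p := by
  refine Eq.trans (Nat.card_congr ⟨fun x => x.1.a, fun a => ⟨⟨1, a⟩, rfl⟩,
    fun x => Subtype.ext (ext' x.2.symm rfl), fun _ => rfl⟩) (Nat.card_zmod p)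

end CenExt

variable {G : Type u} [Group G] [Finite G] {p : ℕ} [hp : Fact p.Prime] (P : Sylow p G)

/-- Conjugation into an inverted abelian Sylow subgroup is uniformly trivial or inversion. -/
theorem exists_uniform_sign (hp2 : p ≠ 2) (hab : IsMulCommutative (P : Subgroup G))
    (hfus : ∀ x y : (P : Subgroup G), IsConj (x : G) y → y = x ∨ y = x⁻¹) (g : G) :
    ∃ e : ℤ, (e = 1 ∨ e = -1) ∧
      ∀ q : (P : Subgroup G), g⁻¹ * q * g ∈ (P : Subgroup G) → g⁻¹ * q * g = (q : G) ^ e := by
  have hodd : ∀ x : (P : Subgroup G), x = x⁻¹ → x = 1 := by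
    intro x hx
    obtain ⟨k, hk⟩ := IsPGroup.iff_orderOf.1 P.2 x
    refine orderOf_eq_one_iff.1 (Nat.eq_one_of_dvd_coprimes ?_ (dvd_of_eq hk)
      (orderOf_dvd_of_pow_eq_one (show x ^ 2 = 1 by rw [pow_two]; nth_rewrite 1 [hx]; exact inv_mul_cancel x)))
    exact ((Nat.coprime_primes hp.out Nat.prime_two).2 hp2).pow_left k
  have hval : ∀ q : (P : Subgroup G), ∀ hq : g⁻¹ * q * g ∈ (P : Subgroup G),
      (⟨_, hq⟩ : (P : Subgroup G)) = q ∨ (⟨_, hq⟩ : (P : Subgroup G)) = q⁻¹ := fun q hq =>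
    hfus q ⟨_, hq⟩ (isConj_iff.2 ⟨g⁻¹, by rw [inv_inv]⟩)
  by_cases hall : ∀ q : (P : Subgroup G), g⁻¹ * q * g ∈ (P : Subgroup G) → g⁻¹ * q * g = (q : G)
  · exact ⟨1, Or.inl rfl, fun q hq => by rw [zpow_one]; exact hall q hq⟩
  push Not at hall
  obtain ⟨q₁, hq₁, hne⟩ := hall
  have h1 : g⁻¹ * q₁ * g = (q₁ : G)⁻¹ :=
    congrArg Subtype.val ((hval q₁ hq₁).resolve_left fun e => hne (congrArg Subtype.val e))
  refine ⟨-1, Or.inr rfl, fun q hq => ?_⟩
  rw [zpow_neg_one]
  rcases hval q hq with e | e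
  swap
  · exact congrArg Subtype.val e
  have h2 : g⁻¹ * q * g = (q : G) := congrArg Subtype.val e
  have h12 : g⁻¹ * ((q₁ * q : (P : Subgroup G)) : G) * g = ((q₁⁻¹ * q : (P : Subgroup G)) : G) := by
    push_cast
    calc g⁻¹ * ((q₁ : G) * q) * g = (g⁻¹ * q₁ * g) * (g⁻¹ * q * g) := by group
      _ = _ := by rw [h1, h2]
  rcases hfus (q₁ * q) (q₁⁻¹ * q) (isConj_iff.2 ⟨g⁻¹, by rw [inv_inv]; exact h12⟩) with e' | e'
  · have := hodd q₁ (mul_right_cancel e').symm
    exact absurd (by rw [this]; simp) hne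
  · rw [mul_inv_rev, mul_comm' q⁻¹] at e'
    have := hodd q (mul_left_cancel e')
    rw [this]; simp

theorem potential_step {K : Type*} [CommGroup K] (a b w t t' : K) :
    b⁻¹ * (t'⁻¹ * w * t) * a = w * (t * a) * (t' * b)⁻¹ := by
  rw [mul_inv_rev]; ac_rfl

open scoped Classical in
/-- The transferred cocycle. -/
theorem exists_transfer_cocycle [Fintype (G ⧸ (P : Subgroup G))] (hp2 : p ≠ 2)
    (hab : IsMulCommutative (P : Subgroup G))
    (hfus : ∀ x y : (P : Subgroup G), IsConj (x : G) y → y = x ∨ y = x⁻¹)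
    (f₁ f₂ : (P : Subgroup G) →* Multiplicative (ZMod p)) :
    ∃ c : CenCocycle G p, ∀ x y : (P : Subgroup G),
      c.val x y - c.val y x = ((P : Subgroup G).index : ZMod p) *
        ((f₁ x).toAdd * (f₂ y).toAdd - (f₁ y).toAdd * (f₂ x).toAdd) := by
  letI : CommGroup (P : Subgroup G) := { mul_comm := mul_comm' }
  let τ : G ⧸ (P : Subgroup G) → G := Quotient.out
  have hmem : ∀ (g : G) (i : G ⧸ (P : Subgroup G)), (τ (g • i))⁻¹ * g * τ i ∈ (P : Subgroup G) := by
    intro g i
    rw [mul_assoc, ← QuotientGroup.eq, QuotientGroup.out_eq']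
    conv_lhs => rw [← QuotientGroup.out_eq' i]
    rfl
  let π : G → G ⧸ (P : Subgroup G) → (P : Subgroup G) := fun g i => ⟨_, hmem g i⟩
  have hπ : ∀ g h i, π (g * h) i = π g (h • i) * π h i := fun g h i => Subtype.ext (by
    show (τ ((g * h) • i))⁻¹ * (g * h) * τ i =
      (τ (g • h • i))⁻¹ * g * τ (h • i) * ((τ (h • i))⁻¹ * h * τ i)
    rw [mul_smul]; group)
  have hπ1 : ∀ i, π 1 i = 1 := fun i => Subtype.ext (by
    show (τ ((1 : G) • i))⁻¹ * 1 * τ i = 1
    rw [one_smul]; group)
  let F₁ : ↥(P : Subgroup G) → ZMod p := fun x => (f₁ x).toAdd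
  let F₂ : ↥(P : Subgroup G) → ZMod p := fun x => (f₂ x).toAdd
  have hF₁ : ∀ x y, F₁ (x * y) = F₁ x + F₁ y := fun x y => by simp only [F₁, map_mul, toAdd_mul]
  have hF₂ : ∀ x y, F₂ (x * y) = F₂ x + F₂ y := fun x y => by simp only [F₂, map_mul, toAdd_mul]
  let c : CenCocycle G p :=
    { val := fun g h => ∑ i, F₁ (π g (h • i)) * F₂ (π h i)
      one_left := fun g => Finset.sum_eq_zero fun i _ => by simp [hπ1, F₁]
      one_right := fun g => Finset.sum_eq_zero fun i _ => by simp [hπ1, F₂]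
      assoc := fun g h k => by
        have hsh : ∑ i, F₁ (π g (h • i)) * F₂ (π h i) =
            ∑ i, F₁ (π g (h • k • i)) * F₂ (π h (k • i)) :=
          (Equiv.sum_comp (MulAction.toPerm k) fun i => F₁ (π g (h • i)) * F₂ (π h i)).symm
        rw [hsh, ← Finset.sum_add_distrib, ← Finset.sum_add_distrib]
        refine Finset.sum_congr rfl fun i _ => ?_
        rw [hπ, hπ h k, hF₁, hF₂, mul_smul]
        ring }
  refine ⟨c, fun x y => ?_⟩
  -- signs and potentials on the orbits of `P`
  set j : G ⧸ (P : Subgroup G) → G ⧸ (P : Subgroup G) := fun i =>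
    (Quotient.mk'' i : MulAction.orbitRel.Quotient (P : Subgroup G) (G ⧸ (P : Subgroup G))).out
  have hjs : ∀ (w : (P : Subgroup G)) i, j ((w : G) • i) = j i := fun w i =>
    congrArg Quotient.out (Quotient.sound' (MulAction.orbitRel_apply.2 ⟨w, rfl⟩))
  have hs : ∀ i, ∃ w : (P : Subgroup G), (w : G) • j i = i := by
    intro i
    have h : MulAction.orbitRel (P : Subgroup G) (G ⧸ (P : Subgroup G)) i (j i) :=
      Quotient.exact' (Quotient.out_eq' (Quotient.mk'' i : MulAction.orbitRel.Quotient _ _)).symm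
    exact MulAction.orbitRel_apply.1 h
  choose s hs using hs
  choose e he hconj using fun i => exists_uniform_sign P hp2 hab hfus (τ i)
  have hh : ∀ i, ((s i : G) * τ (j i))⁻¹ * τ i ∈ (P : Subgroup G) := by
    intro i
    rw [← QuotientGroup.eq, QuotientGroup.out_eq']
    refine Eq.trans ?_ (hs i)
    show QuotientGroup.mk ((s i : G) * τ (j i)) = (s i : G) • j i
    conv_rhs => rw [← QuotientGroup.out_eq' (j i)]
    rfl
  let D : G ⧸ (P : Subgroup G) → (P : Subgroup G) := fun i => s i ^ e (j i) * ⟨_, hh i⟩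
  have hkey : ∀ (w : (P : Subgroup G)) i,
      π (w : G) i = w ^ e (j i) * D i * (D ((w : G) • i))⁻¹ := by
    intro w i
    set i' := (w : G) • i with hi'
    have hj : j i' = j i := hjs w i
    let q : (P : Subgroup G) := (s i')⁻¹ * w * s i
    have hrel : (τ (j i))⁻¹ * (q : G) * τ (j i) =
        (((⟨_, hh i'⟩ : (P : Subgroup G)) * π (w : G) i * (⟨_, hh i⟩ : (P : Subgroup G))⁻¹ :
          (P : Subgroup G)) : G) := by
      push_cast [q]
      show _ = ((s i' : G) * τ (j i'))⁻¹ * τ i' * ((τ ((w : G) • i))⁻¹ * w * τ i) *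
        (((s i : G) * τ (j i))⁻¹ * τ i)⁻¹
      rw [← hi', hj]
      group
    have h1 := hconj (j i) q (hrel ▸ SetLike.coe_mem _)
    rw [hrel, ← Subgroup.coe_zpow, Subtype.coe_inj] at h1
    rw [show π (w : G) i = (⟨_, hh i'⟩ : (P : Subgroup G))⁻¹ *
      ((⟨_, hh i'⟩ : (P : Subgroup G)) * π (w : G) i * (⟨_, hh i⟩ : (P : Subgroup G))⁻¹) *
      (⟨_, hh i⟩ : (P : Subgroup G)) by group, h1]
    simp only [q, D, mul_zpow, inv_zpow, hj]
    exact potential_step _ _ _ _ _
  -- the commutator form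
  set ε : G ⧸ (P : Subgroup G) → ZMod p := fun i => (e (j i) : ZMod p)
  have hεsq : ∀ i, ε i * ε i = 1 := fun i => by rcases he (j i) with a | a <;> simp [ε, a]
  have hεinv : ∀ (w : (P : Subgroup G)) i, ε ((w : G) • i) = ε i := fun w i => by simp only [ε, hjs]
  set A := fun i => F₁ (D i)
  set B := fun i => F₂ (D i)
  have hπF : ∀ (f : (P : Subgroup G) →* Multiplicative (ZMod p)) (w : (P : Subgroup G)) i,
      (f (π (w : G) i)).toAdd = ε i * (f w).toAdd + (f (D i)).toAdd - (f (D ((w : G) • i))).toAdd := by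
    intro f w i
    rw [hkey w i]
    simp only [map_mul, map_inv, map_zpow, toAdd_mul, toAdd_inv, toAdd_zpow, zsmul_eq_mul, ε]
    ring
  have hxy : ∀ i : G ⧸ (P : Subgroup G), (x : G) • (y : G) • i = (y : G) • (x : G) • i := fun i => by
    rw [smul_smul, smul_smul, ← Subgroup.coe_mul, mul_comm x y, Subgroup.coe_mul]
  have hshift : ∀ (w : (P : Subgroup G)) (U : G ⧸ (P : Subgroup G) → ZMod p),
      ∑ i, U ((w : G) • i) = ∑ i, U i := fun w U => Equiv.sum_comp (MulAction.toPerm (w : G)) U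
  show ∑ i, F₁ (π x ((y : G) • i)) * F₂ (π y i) - ∑ i, F₁ (π y ((x : G) • i)) * F₂ (π x i) =
    ((P : Subgroup G).index : ZMod p) * (F₁ x * F₂ y - F₁ y * F₂ x)
  simp only [F₁, F₂, hπF, hεinv]
  change ∑ i, (ε i * F₁ x + A ((y : G) • i) - A ((x : G) • (y : G) • i)) *
      (ε i * F₂ y + B i - B ((y : G) • i)) -
    ∑ i, (ε i * F₁ y + A ((x : G) • i) - A ((y : G) • (x : G) • i)) *
      (ε i * F₂ x + B i - B ((x : G) • i)) = _
  have expand : ∀ (w v : (P : Subgroup G)),
      ∑ i, (ε i * F₁ w + A ((v : G) • i) - A ((w : G) • (v : G) • i)) *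
        (ε i * F₂ v + B i - B ((v : G) • i)) =
      ∑ _i : G ⧸ (P : Subgroup G), F₁ w * F₂ v + ∑ i, A ((v : G) • i) * B i - ∑ i, A i * B i -
        ∑ i, A ((w : G) • (v : G) • i) * B i + ∑ i, A ((w : G) • i) * B i := by
    intro w v
    have base : ∀ (t : (P : Subgroup G)) (U : G ⧸ (P : Subgroup G) → ZMod p),
        ∑ i, ε i * U ((t : G) • i) = ∑ i, ε i * U i := fun t U => by
      rw [← hshift t fun i => ε i * U i]
      simp only [hεinv]
    have l1 := base v B
    have l2 : ∑ i, ε i * A ((w : G) • (v : G) • i) = ∑ i, ε i * A ((v : G) • i) :=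
      (base v fun i => A ((w : G) • i)).trans ((base w A).trans (base v A).symm)
    have q1 := hshift v fun i => A i * B i
    have q2 := hshift v fun i => A ((w : G) • i) * B i
    have hsplit : ∀ i, (ε i * F₁ w + A ((v : G) • i) - A ((w : G) • (v : G) • i)) *
        (ε i * F₂ v + B i - B ((v : G) • i)) =
      F₁ w * F₂ v + A ((v : G) • i) * B i - A ((v : G) • i) * B ((v : G) • i) -
        A ((w : G) • (v : G) • i) * B i + A ((w : G) • (v : G) • i) * B ((v : G) • i) +
        F₁ w * (ε i * B i - ε i * B ((v : G) • i)) +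
        F₂ v * (ε i * A ((v : G) • i) - ε i * A ((w : G) • (v : G) • i)) := fun i => by
      linear_combination (F₁ w * F₂ v) * hεsq i
    simp only [hsplit, Finset.sum_add_distrib, Finset.sum_sub_distrib, ← Finset.mul_sum, l1, l2, q1, q2]
    ring
  rw [expand x y, expand y x]
  simp only [hxy, Finset.sum_const, Finset.card_univ, nsmul_eq_mul]
  rw [← Nat.card_eq_fintype_card, show Nat.card (G ⧸ (P : Subgroup G)) = (P : Subgroup G).index from rfl]
  ring

/-- A noncyclic abelian group of prime power order maps onto two independent coordinates. -/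
theorem exists_independent_pair {A : Type*} [CommGroup A] [Finite A] {q : ℕ} [Fact q.Prime]
    (hA : IsPGroup q A) (hnc : ¬ IsCyclic A) :
    ∃ (f₁ f₂ : A →* Multiplicative (ZMod q)) (x y : A),
      (f₁ x).toAdd * (f₂ y).toAdd - (f₁ y).toAdd * (f₂ x).toAdd = 1 := by
  classical
  obtain ⟨ι, hι, n, hn, ⟨e⟩⟩ := CommGroup.equiv_prod_multiplicative_zmod_of_finite A
  have hdvd : ∀ i, q ∣ n i := by
    intro i
    let a : A := e.symm (Pi.mulSingle i (Multiplicative.ofAdd 1))
    obtain ⟨k, hk⟩ := IsPGroup.iff_orderOf.1 hA a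
    have ho : orderOf a = n i := by
      rw [show orderOf a = orderOf (Pi.mulSingle i (Multiplicative.ofAdd 1) :
        (i : ι) → Multiplicative (ZMod (n i))) from MulEquiv.orderOf_eq e.symm _]
      refine Eq.trans (orderOf_injective (MonoidHom.mulSingle (fun i => Multiplicative (ZMod (n i))) i)
        (Pi.mulSingle_injective (M := fun i => Multiplicative (ZMod (n i))) i) _) ?_
      rw [orderOf_ofAdd_eq_addOrderOf, ZMod.addOrderOf_one]
    rw [ho] at hk
    cases k with
    | zero => rw [pow_zero] at hk; have := hn i; omega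
    | succ k => rw [hk]; exact dvd_pow_self q k.succ_ne_zero
  obtain ⟨i, j, hij⟩ : ∃ i j : ι, i ≠ j := by
    by_contra h
    push Not at h
    haveI : Subsingleton ι := ⟨h⟩
    refine hnc (MulEquiv.isCyclic e |>.2 ?_)
    rcases isEmpty_or_nonempty ι with hE | ⟨⟨i⟩⟩
    · infer_instance
    · haveI := uniqueOfSubsingleton i
      exact (MulEquiv.isCyclic (MulEquiv.piUnique fun i => Multiplicative (ZMod (n i)))).2 inferInstance
  let f : ι → A →* Multiplicative (ZMod q) := fun k =>
    ((ZMod.castHom (hdvd k) (ZMod q)).toAddMonoidHom.toMultiplicative.comp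
      (Pi.evalMonoidHom (fun i => Multiplicative (ZMod (n i))) k)).comp e.toMonoidHom
  refine ⟨f i, f j, e.symm (Pi.mulSingle i (Multiplicative.ofAdd 1)),
    e.symm (Pi.mulSingle j (Multiplicative.ofAdd 1)), ?_⟩
  simp [f, hij, hij.symm, ZMod.cast_one (hdvd i), ZMod.cast_one (hdvd j)]

end CfsgLib.PermGroups
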