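import Cfsg.Agent.Lib.PermGroups.CentralLiftPairs
import Cfsg.Agent.Lib.PermGroups.InvertedSylowExtension
import Cfsg.Agent.Lib.BlockSections.ExceptionalInvolution
import Cfsg.Agent.Lib.CharDegreesTheory.SmallDegrees
import Mathlib.RingTheory.RootsOfUnity.Complex

/-!
# A noncyclic abelian Sylow subgroup inverted by its normalizer

The principal block has one constant row besides the trivial one. Its degree is forced to be one
by counting pairs of involutions in the group and in a central extension in which the Sylow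
subgroup is not abelian.
-/

set_option autoImplicit false
set_option linter.unusedSectionVars false
set_option linter.style.haveILetI false

namespace CfsgLib.PermGroups

open Cfsg CfsgLib.CharTheory CfsgLib.Blocks CfsgLib.BrauerCharacters CfsgLib.BlockSections
open CfsgLib.BlockSections.Exceptional CfsgLib.BrauerPairs Finset
open scoped ComplexConjugate

theorem sq_mul_div_expand {α β z v : ℂ} (h : α + β * z ≠ 0 ∨ α = 0) :
    α * (α + β * v) ^ 2 / (α + β * z) =
      α * (α + β * z) + 2 * (v - z) * (α * β) + (v - z) ^ 2 * (α * β ^ 2 / (α + β * z)) := by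
  rcases h with h | h
  · field_simp; ring
  · simp [h]

/-- Two rows of nonzero difference force a row of degree one. -/
theorem exists_unit_row {a z : ℤ} (ha : a * a = 1) (hz : a * z ≠ 1) {α₁ β₁ α₂ β₂ d₁ d₂ : ℤ}
    (hd₁ : d₁ = a * β₁ - α₁) (hd₂ : d₂ = a * β₂ - α₂) (h₁ : d₁ ^ 2 = 1) (h₂ : d₂ ^ 2 = 1)
    (hsum : a * (β₁ * d₁ + β₂ * d₂) = 1)
    (heq : α₁ * β₁ * d₁ * (α₂ + β₂ * z) + α₂ * β₂ * d₂ * (α₁ + β₁ * z) = 0) :
    (β₁ = 0 ∧ (α₁ = 1 ∨ α₁ = -1)) ∨ (β₂ = 0 ∧ (α₂ = 1 ∨ α₂ = -1)) := by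
  set k := α₁ * d₁ with hk
  set l := α₂ * d₂ with hl
  have hα₁ : α₁ = k * d₁ := by rw [hk]; linear_combination -α₁ * h₁
  have hα₂ : α₂ = l * d₂ := by rw [hl]; linear_combination -α₂ * h₂
  have hβ₁ : β₁ = a * d₁ * (k + 1) := by
    linear_combination -β₁ * ha - a * hd₁ + a * hα₁
  have hβ₂ : β₂ = a * d₂ * (l + 1) := by
    linear_combination -β₂ * ha - a * hd₂ + a * hα₂
  have hl' : l = -1 - k := by
    rw [hβ₁, hβ₂] at hsum
    linear_combination hsum - (a * a * (k + 1)) * h₁ - (a * a * (l + 1)) * h₂ - (k + l + 2) * ha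
  rw [hα₁, hα₂, hβ₁, hβ₂] at heq
  have h3 : d₁ * d₁ * d₁ = d₁ := by linear_combination d₁ * h₁
  have h4 : d₂ * d₂ * d₂ = d₂ := by linear_combination d₂ * h₂
  have heq' : a * (d₁ * d₂) * (k * (k + 1) * (l + a * (l + 1) * z) +
      l * (l + 1) * (k + a * (k + 1) * z)) = 0 := by
    linear_combination heq - (a * k * (k + 1) * d₂ * (l + a * (l + 1) * z)) * h3 -
      (a * l * (l + 1) * d₁ * (k + a * (k + 1) * z)) * h4
  rw [hl'] at heq'
  have h5 : a * (d₁ * d₂) * (a * z - 1) * (k * (k + 1)) = 0 := by linear_combination heq'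
  have ha0 : a ≠ 0 := fun e => by simp [e] at ha
  have hd10 : d₁ ≠ 0 := fun e => by simp [e] at h₁
  have hd20 : d₂ ≠ 0 := fun e => by simp [e] at h₂
  have hk' : k * (k + 1) = 0 := (mul_eq_zero.1 h5).resolve_left
    (mul_ne_zero (mul_ne_zero ha0 (mul_ne_zero hd10 hd20)) (sub_ne_zero.2 hz))
  rcases mul_eq_zero.1 hk' with e | e
  · right
    rw [e] at hl'
    refine ⟨by rw [hβ₂, hl']; ring, ?_⟩
    rcases sq_eq_one_iff.1 h₂ with e' | e' <;> rw [hα₂, hl', e'] <;> norm_num
  · left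
    refine ⟨by rw [hβ₁, e, mul_zero], ?_⟩
    rw [show k = -1 by linarith] at hα₁
    rcases sq_eq_one_iff.1 h₁ with e' | e' <;> rw [hα₁, e'] <;> norm_num

variable {G : Type*} [Group G] [Fintype G] {p : ℕ} [hp : Fact p.Prime] {P : Sylow p G}
  (hF : IsFrobSylow P 2) {M : Ideal AlgInt} [M.IsPrime] (hM : IsPModular p M)
include hF

/-- A singular element has a conjugate whose `p`-part lies in `P`. -/
theorem exists_section {g : G} (hg : p ∣ orderOf g) :
    ∃ c : G, ∃ v : (P : Subgroup G), v ≠ 1 ∧ IsPPart p (c * g * c⁻¹) (v : G) := by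
  obtain ⟨z, hz⟩ := Blocks.exists_isPPart p g
  obtain ⟨k, hk⟩ : ∃ k : ℕ, orderOf z = p ^ k := by
    obtain ⟨u, -, -, h, -⟩ := id hz; exact h
  obtain ⟨Q, hQ⟩ := (IsPGroup.of_card (n := k) (show Nat.card (Subgroup.zpowers z) = p ^ k by
    rw [Nat.card_zpowers, hk])).exists_le_sylow
  obtain ⟨c, hc⟩ := MulAction.exists_smul_eq G P Q
  rw [← hc] at hQ
  obtain ⟨v, hv, hvz⟩ := Subgroup.mem_map.1 (hQ (Subgroup.mem_zpowers z))
  change c * v * c⁻¹ = z at hvz
  refine ⟨c⁻¹, ⟨v, hv⟩, fun e => ?_, ?_⟩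
  · exact ((isPPart_eq_one_iff hz).1 (by
      rw [← hvz, show v = 1 from congrArg Subtype.val e]; group)) hg
  · have hzc := IsPPart.conj hz c⁻¹
    rw [inv_inv] at hzc ⊢
    rwa [show c⁻¹ * z * c = v by rw [← hvz]; group] at hzc

omit hF in
/-- Elements of `P` are conjugate only to themselves and their inverses. -/
theorem fusion_of_inversion (hF' : IsFrobSylow P 2) (hinv : ∀ y ∈ (P : Subgroup G), IsConj y y⁻¹)
    (hp2 : p ≠ 2) (x y : (P : Subgroup G)) (h : IsConj (x : G) y) : y = x ∨ y = x⁻¹ := by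
  obtain ⟨β, hβ, rfl⟩ := (isConj_iff_autP hF').1 h
  by_cases hx : x = 1
  · left; rw [hx, map_one]
  obtain ⟨α, hα, hαx⟩ := (isConj_iff_autP hF' (y := x) (y' := x⁻¹)).1 (hinv x x.2)
  have hne : x⁻¹ ≠ x := by
    intro e
    obtain ⟨k, hk⟩ := IsPGroup.iff_orderOf.1 P.2 x
    refine hx (orderOf_eq_one_iff.1 (Nat.eq_one_of_dvd_coprimes ?_ (dvd_of_eq hk)
      (orderOf_dvd_of_pow_eq_one (show x ^ 2 = 1 by
        rw [pow_two]; nth_rewrite 1 [← e]; exact inv_mul_cancel x))))
    exact ((Nat.coprime_primes hp.out Nat.prime_two).2 hp2).pow_left k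
  by_cases hb : β = 1
  · left; rw [hb]; rfl
  right
  have hα1 : α ≠ 1 := fun e => hne (by rw [← hαx, e]; rfl)
  obtain ⟨w, -, hw⟩ := (Nat.card_eq_two_iff' (1 : autP P)).1 (card_autP hF')
  rw [← hαx]
  exact DFunLike.congr_fun (congrArg Subtype.val
    ((hw ⟨β, hβ⟩ fun e => hb (congrArg Subtype.val e)).trans
      (hw ⟨α, hα⟩ fun e => hα1 (congrArg Subtype.val e)).symm)) x

include hM

/-- The shape of the principal block. -/
theorem exists_rows (hq : 7 < Nat.card (P : Subgroup G)) :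
    ∃ (D : ExcData p M P 2) (χ : IrrCharacter G), D.d = 0 ∧ χ ≠ trivIrr G ∧ D.X = {trivIrr G, χ} ∧
      D.a χ * D.a χ = 1 ∧ D.δ * D.δ = 1 := by
  classical
  obtain ⟨D⟩ := exists_excData hF hM (by norm_num) (by omega)
  have hr : 4 ≤ Nat.card D.Y := by have := D.card_Y; omega
  set XE := D.X.toFinite.toFinset.erase (trivIrr G) with hXE
  have hnorm := D.norm
  rw [finsum_mem_eq_finite_toFinset_sum _ D.X.toFinite,
    ← add_sum_erase _ _ (D.X.toFinite.mem_toFinset.2 D.triv), D.a_triv, one_pow] at hnorm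
  have hnn : 0 ≤ ∑ χ ∈ XE, D.a χ ^ 2 := sum_nonneg fun χ _ => sq_nonneg _
  have hd : D.d = 0 := by
    have h3 : (3 : ℤ) ≤ (Nat.card D.Y : ℤ) - 1 := by omega
    by_contra hne
    have h1 : 1 ≤ D.d ^ 2 := by have := pow_two_pos_of_ne_zero hne; omega
    push_cast at hnorm
    nlinarith [sq_nonneg (D.d - D.δ)]
  have hδ : D.δ * D.δ = 1 := by rcases D.sign with e | e <;> rw [e] <;> norm_num
  have h1 : ∑ χ ∈ XE, D.a χ ^ 2 = 1 := by
    rw [hd] at hnorm; push_cast at hnorm; nlinarith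
  have hpos : ∀ χ ∈ XE, 1 ≤ D.a χ ^ 2 := fun χ hχ => by
    have := pow_two_pos_of_ne_zero (D.a_ne χ (D.X.toFinite.mem_toFinset.1 (mem_of_mem_erase hχ)))
    omega
  have hcard : XE.card = 1 := by
    have hle := card_nsmul_le_sum XE _ _ hpos
    rw [h1] at hle
    simp at hle
    rcases Nat.eq_zero_or_pos XE.card with e | e
    · rw [card_eq_zero.1 e] at h1; simp at h1
    · omega
  obtain ⟨χ, hχ⟩ := card_eq_one.1 hcard
  have hχm : χ ∈ XE := by rw [hχ]; exact Finset.mem_singleton_self _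
  refine ⟨D, χ, hd, (mem_erase.1 hχm).1, Set.ext fun ξ => ?_, ?_, hδ⟩
  · constructor
    · intro hξ
      by_cases h : ξ = trivIrr G
      · exact Or.inl h
      · exact Or.inr (Finset.mem_singleton.1 (hχ ▸ mem_erase.2 ⟨h, D.X.toFinite.mem_toFinset.2 hξ⟩))
    · rintro (rfl | rfl)
      · exact D.triv
      · exact D.X.toFinite.mem_toFinset.1 (mem_of_mem_erase hχm)
  · rw [hχ, sum_singleton, pow_two] at h1
    exact h1

open scoped Classical in
/-- The constant row is linear and positive. -/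
theorem degree_eq_one (hp2 : p ≠ 2) (hinv : ∀ y ∈ (P : Subgroup G), IsConj y y⁻¹)
    (hnc : ¬ IsCyclic (P : Subgroup G)) {D : ExcData p M P 2} {χ : IrrCharacter G} (hd : D.d = 0)
    (hne : χ ≠ trivIrr G) (hX : D.X = {trivIrr G, χ}) (ha2 : D.a χ * D.a χ = 1)
    (hδ2 : D.δ * D.δ = 1) {t : G} (ht : t * t = 1) (hv : (χ : G → ℂ) t ≠ (χ : G → ℂ) 1) :
    D.a χ * (charDegree (χ : G → ℂ) : ℤ) = 1 := by
  haveI := hF.comm
  letI : CommGroup (P : Subgroup G) := { mul_comm := mul_comm' }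
  haveI := Fintype.ofFinite (G ⧸ (P : Subgroup G))
  haveI := Fintype.ofFinite (IrrCharacter G)
  by_contra haz
  set a := D.a χ with hadef
  set δ := D.δ with hδdef
  set z₁ : ℤ := (charDegree (χ : G → ℂ) : ℤ) with hz₁
  set r : ℕ := Nat.card D.Y with hrdef
  set v : ℂ := (χ : G → ℂ) t with hvdef
  have hχ1 : (χ : G → ℂ) 1 = (z₁ : ℂ) := by rw [(charDegree_spec χ).1, hz₁, Int.cast_natCast]
  have haC : (a : ℂ) * a = 1 := by exact_mod_cast ha2
  have hδC : (δ : ℂ) * δ = 1 := by exact_mod_cast hδ2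
  have hχX : χ ∈ D.X := by rw [hX]; exact Or.inr rfl
  -- the block
  set YF := D.Y.toFinite.toFinset with hYF
  have hYcard : (YF.card : ℂ) = (r : ℂ) := by rw [hrdef, ← Nat.card_eq_card_finite_toFinset]
  have hXF : D.X.toFinite.toFinset = ({trivIrr G, χ} : Finset (IrrCharacter G)) := by
    ext ξ; simp [hX]
  have htY : trivIrr G ∉ YF := fun h =>
    Set.disjoint_left.1 D.disj D.triv (D.Y.toFinite.mem_toFinset.1 h)
  have hχY : χ ∉ YF := fun h => Set.disjoint_left.1 D.disj hχX (D.Y.toFinite.mem_toFinset.1 h)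
  have hB : ∀ ξ, ξ ∈ principalBlock M G ↔ ξ = trivIrr G ∨ ξ = χ ∨ ξ ∈ YF := fun ξ => by
    rw [D.union, hX, hYF]; simp [or_assoc]
  have hηreg : ∀ η ∈ YF, ∀ g : G, ¬ p ∣ orderOf g →
      (η : G → ℂ) g = δ * (1 + a * (χ : G → ℂ) g) := by
    intro η hη g hg
    have h := D.reg η (D.Y.toFinite.mem_toFinset.1 hη) g hg
    rw [finsum_mem_eq_finite_toFinset_sum _ D.X.toFinite, hXF, sum_pair (Ne.symm hne), D.a_triv,
      trivIrr_apply, ← hadef, ← hδdef, hd] at h
    push_cast at h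
    linear_combination (-(δ : ℂ)) * h - (η : G → ℂ) g * hδC
  have hone : ¬ p ∣ orderOf (1 : G) := by rw [orderOf_one]; exact hp.out.not_dvd_one
  have htreg : ¬ p ∣ orderOf t := fun h => hp2 ((Nat.prime_dvd_prime_iff_eq hp.out Nat.prime_two).1
    (h.trans (orderOf_dvd_of_pow_eq_one (by rw [pow_two, ht]))))
  obtain ⟨η₀, hη₀⟩ : YF.Nonempty := card_pos.1 (by
    rw [hYF, ← Nat.card_eq_card_finite_toFinset]; have := D.two_le; omega)
  have hw : (1 : ℂ) + a * z₁ ≠ 0 := fun e => apply_one_ne_zero_of_isIrr η₀.2 (by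
    rw [hηreg η₀ hη₀ 1 hone, hχ1, e, mul_zero])
  -- sums over the sections
  have hYsec : ∀ (g : G) (w : (P : Subgroup G)), w ≠ 1 → IsPPart p g (w : G) →
      ∑ η ∈ YF, (η : G → ℂ) g = -(δ : ℂ) := by
    intro g w hw1 hg
    have hw1' : (w : G) ≠ 1 := fun e => hw1 (Subtype.ext e)
    have ho := sum_reg_mul_conj hF hM hone w.2 hw1'
    rw [sum_split hM D, finsum_mem_eq_finite_toFinset_sum _ D.X.toFinite,
      finsum_mem_eq_finite_toFinset_sum _ D.Y.toFinite, hXF, sum_pair (Ne.symm hne),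
      trivIrr_apply, trivIrr_apply, map_one, mul_one,
      D.val_X χ hχX _ _ (isPPart_self hF hM w.2) w.2 hw1', map_intCast, hχ1, ← hYF, ← hadef,
      sum_congr rfl (g := fun η : IrrCharacter G => (δ : ℂ) * (1 + a * z₁) * conj ((η : G → ℂ) (w : G)))
        (fun η hη => by rw [hηreg η hη 1 hone, hχ1]), ← mul_sum] at ho
    have hc : ∑ η ∈ YF, conj ((η : G → ℂ) (w : G)) = -(δ : ℂ) := by
      refine mul_left_cancel₀ hw ?_
      linear_combination (δ : ℂ) * ho - (1 + a * (z₁ : ℂ)) *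
        (∑ η ∈ YF, conj ((η : G → ℂ) (w : G))) * hδC
    rw [sum_congr rfl (g := fun η : IrrCharacter G => (η : G → ℂ) (w : G)) fun η hη =>
      apply_section hF hM ((hB η).2 (Or.inr (Or.inr hη))) hg w.2 hw1']
    apply (starRingEnd ℂ).injective
    rw [map_sum, hc, map_neg, map_intCast]
  -- the two columns
  set c₁ : IrrCharacter G → ℤ := fun ξ => if ξ = trivIrr G then 1 else if ξ ∈ YF then δ else 0
    with hc₁
  set c₂ : IrrCharacter G → ℤ := fun ξ => if ξ = χ then 1 else if ξ ∈ YF then δ * a else 0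
    with hc₂
  set Φ₁ : G → ℂ := ∑ ξ, (c₁ ξ : ℂ) • (ξ : G → ℂ) with hΦ₁
  set Φ₂ : G → ℂ := ∑ ξ, (c₂ ξ : ℂ) • (ξ : G → ℂ) with hΦ₂
  have hsupp : ∀ ξ, (c₁ ξ ≠ 0 ∨ c₂ ξ ≠ 0) → ξ ∈ principalBlock M G := by
    intro ξ h
    rw [hB]
    by_contra hn
    push Not at hn
    simp [hc₁, hc₂, hn.1, hn.2.1, hn.2.2] at h
  have hsum₁ : ∀ f : IrrCharacter G → ℂ, ∑ ξ, (c₁ ξ : ℂ) * f ξ =
      f (trivIrr G) + δ * ∑ η ∈ YF, f η := by
    intro f
    rw [mul_sum, ← sum_subset (subset_univ (insert (trivIrr G) YF)) fun ξ _ h => by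
      simp only [Finset.mem_insert, not_or] at h
      simp [hc₁, h.1, h.2], sum_insert htY]
    congr 1
    · simp [hc₁]
    · exact sum_congr rfl fun η hη => by
        simp only [hc₁]
        rw [if_neg (fun e : η = trivIrr G => htY (e ▸ hη)), if_pos hη]
  have hsum₂ : ∀ f : IrrCharacter G → ℂ, ∑ ξ, (c₂ ξ : ℂ) * f ξ =
      f χ + δ * a * ∑ η ∈ YF, f η := by
    intro f
    rw [mul_sum, ← sum_subset (subset_univ (insert χ YF)) fun ξ _ h => by
      simp only [Finset.mem_insert, not_or] at h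
      simp [hc₂, h.1, h.2], sum_insert hχY]
    congr 1
    · simp [hc₂]
    · exact sum_congr rfl fun η hη => by
        simp only [hc₂]
        rw [if_neg (fun e : η = χ => hχY (e ▸ hη)), if_pos hη]; push_cast; rfl
  have hΦapp : ∀ (c : IrrCharacter G → ℤ) (g : G),
      (∑ ξ, (c ξ : ℂ) • (ξ : G → ℂ) : G → ℂ) g = ∑ ξ, (c ξ : ℂ) * (ξ : G → ℂ) g := fun c g => by
    simp [Finset.sum_apply]
  have hsing : (∀ g, p ∣ orderOf g → Φ₁ g = 0) ∧ ∀ g, p ∣ orderOf g → Φ₂ g = 0 := by
    constructor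
    all_goals
      intro g hg
      obtain ⟨c, w, hw1, hc⟩ := exists_section hF hg
      have hw1' : (w : G) ≠ 1 := fun e => hw1 (Subtype.ext e)
      simp only [hΦ₁, hΦ₂, hΦapp, ← apply_conj_elem _ g c, hsum₁, hsum₂, hYsec _ w hw1 hc,
        D.val_X χ hχX _ _ hc w.2 hw1', trivIrr_apply, ← hadef]
    · linear_combination -hδC
    · linear_combination -(a : ℂ) * hδC
  have hclassΦ : IsClassFunction G Φ₁ ∧ IsClassFunction G Φ₂ := by
    constructor
    all_goals
      intro x y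
      simp only [hΦ₁, hΦ₂, hΦapp, apply_conj_elem]
  have hgenΦ : IsGeneralizedCharacter G Φ₁ ∧ IsGeneralizedCharacter G Φ₂ :=
    ⟨isGeneralizedCharacter_iff_exists_sum.2 ⟨c₁, rfl⟩, isGeneralizedCharacter_iff_exists_sum.2 ⟨c₂, rfl⟩⟩
  have hregΦ : ∀ (Φ : G → ℂ), (∀ g, p ∣ orderOf g → Φ g = 0) → ∀ f : G → ℂ,
      regInner p f Φ = classInner f Φ := fun Φ hΦ f => by
    rw [regInner, classInner, classInner]
    congr 1
    refine sum_congr rfl fun g _ => ?_
    rw [pRegularPart_apply]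
    split_ifs with hg
    · simp [hΦ g hg]
    · rfl
  -- the extension
  obtain ⟨f₁, f₂, x₀, y₀, hf⟩ := exists_independent_pair P.2 hnc
  obtain ⟨c, hc⟩ := exists_transfer_cocycle P hp2 hF.comm (fusion_of_inversion hF hinv hp2) f₁ f₂
  haveI := Fintype.ofFinite (CenExt c)
  haveI := Fintype.ofFinite (IrrCharacter (CenExt c))
  set φ := CenExt.proj c
  have hφ : Function.Surjective φ := CenExt.proj_surjective
  have hker : φ.ker ≤ Subgroup.center (CenExt c) := CenExt.ker_le_center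
  have hcardk : Nat.card φ.ker = p := CenExt.card_ker
  set x' : CenExt c := ⟨x₀, 0⟩
  set y' : CenExt c := ⟨y₀, 0⟩
  set z := x' * y' * x'⁻¹ * y'⁻¹ with hzdef
  have hz : z ∈ φ.ker := by
    rw [MonoidHom.mem_ker, hzdef, map_mul, map_mul, map_mul, map_inv, map_inv]
    show (x₀ : G) * y₀ * (x₀ : G)⁻¹ * (y₀ : G)⁻¹ = 1
    rw [← Subgroup.coe_mul, mul_comm x₀ y₀, Subgroup.coe_mul]; group
  have hz1 : z ≠ 1 := by
    intro e
    rw [hzdef, mul_inv_eq_one, mul_inv_eq_iff_eq_mul] at e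
    have h1 : (0 : ZMod p) + 0 + c.val x₀ y₀ = 0 + 0 + c.val y₀ x₀ := congrArg CenExt.a e
    have h2 := hc x₀ y₀
    rw [hf, mul_one, show c.val x₀ y₀ = c.val y₀ x₀ by simpa using h1, sub_self, eq_comm,
      ZMod.natCast_eq_zero_iff] at h2
    exact P.not_dvd_index h2
  have hζ := Complex.isPrimitiveRoot_exp p hp.out.ne_zero
  set ζ := Complex.exp (2 * Real.pi * Complex.I / p)
  set S := (univ : Finset (IrrCharacter (CenExt c))).filter
    (fun ξ : IrrCharacter (CenExt c) => (ξ : CenExt c → ℂ) z = ζ * (ξ : CenExt c → ℂ) 1) with hS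
  choose α hα using exists_int_classInner (E := CenExt c) hφ hker hcardk hgenΦ.1 hsing.1
  choose β hβ using exists_int_classInner (E := CenExt c) hφ hker hcardk hgenΦ.2 hsing.2
  have hp0 : (p : ℂ) ≠ 0 := Nat.cast_ne_zero.2 hp.out.ne_zero
  -- inflation and the principal block of the extension
  have hkp := isPGroup_ker (E := CenExt c) hφ hker hcardk
  have htrivE : inflIrr hφ (trivIrr G) = trivIrr (CenExt c) := Subtype.ext rfl
  have hinflB : ∀ θ : IrrCharacter G,
      inflIrr hφ θ ∈ principalBlock M (CenExt c) ↔ θ ∈ principalBlock M G := by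
    intro θ
    constructor
    · intro h
      exact sameBlock_symm (sameBlock_of_inflate hM hφ hker hkp (finite_isPBlock_principalBlock M) h
        (by rw [htrivE]; exact Blocks.sameBlock_refl _))
    · intro h
      by_contra hn
      have h0 := CfsgLib.BlockLocal.pairReg_eq_zero' (χ := inflIrr hφ θ) (ψ := trivIrr (CenExt c)) hM fun hs => hn (sameBlock_symm hs)
      have h1 : regInner p (inflIrr hφ θ : CenExt c → ℂ) (trivIrr (CenExt c) : CenExt c → ℂ) = 0 := by
        rw [regInner_eq_pairReg, h0, mul_zero]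
      have h2 : regInner p (inflIrr hφ θ : CenExt c → ℂ) (trivIrr (CenExt c) : CenExt c → ℂ) =
          (p : ℂ)⁻¹ * regInner p (θ : G → ℂ) (trivIrr G : G → ℂ) :=
        classInner_regLift hφ hker hcardk (θ : G → ℂ) (trivIrr G : G → ℂ)
      have h3 : regInner p (θ : G → ℂ) (trivIrr G : G → ℂ) = 0 :=
        (mul_eq_zero.1 (h2.symm.trans h1)).resolve_left (inv_ne_zero hp0)
      refine regEntry_ne_zero (p := p) (weakOrth hM (finite_isPBlock_principalBlock M)) hM
        (finite_isPBlock_principalBlock M) h (mem_blockFinset.1 (mem_blockFinset.2 (Blocks.sameBlock_refl _)))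
        (CfsgLib.BlockLocal.blockHeight_trivIrr _) (ψ := trivIrr G) ?_
      simp [regEntry, h3]
  -- the rows on the central character
  have hcase : ∀ ξ : IrrCharacter (CenExt c), (α ξ = 0 ∧ β ξ = 0) ∨
      ∀ e, ¬ p ∣ orderOf e → (ξ : CenExt c → ℂ) e = α ξ + β ξ * (χ : G → ℂ) (φ e) := by
    intro ξ
    by_cases hξ : ξ ∈ principalBlock M (CenExt c)
    swap
    · left
      have h0 : ∀ cc : IrrCharacter G → ℤ, (∀ θ, cc θ ≠ 0 → θ ∈ principalBlock M G) →
          classInner (regLift p φ (∑ θ, (cc θ : ℂ) • (θ : G → ℂ))) (ξ : CenExt c → ℂ) = 0 := by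
        intro cc hcc
        have hlin : regLift p φ (∑ θ, (cc θ : ℂ) • (θ : G → ℂ)) =
            ∑ θ, (cc θ : ℂ) • pRegularPart p (inflIrr hφ θ : CenExt c → ℂ) := by
          rw [← pRegularPart_sum, regLift]
          congr 1
          funext e
          simp [Finset.sum_apply, inflIrr]
        rw [hlin, classInner_sum_left]
        refine sum_eq_zero fun θ _ => ?_
        rw [classInner_smul_left]
        by_cases h : cc θ = 0
        · rw [h, Int.cast_zero, zero_mul]
        refine mul_eq_zero_of_right _ ?_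
        have hns : ¬ SameBlock M (inflIrr hφ θ : CenExt c → ℂ) (ξ : CenExt c → ℂ) := fun hs => hξ
          (sameBlock_trans ((hinflB θ).2 (hcc θ h)) hs)
        have := CfsgLib.BlockLocal.pairReg_eq_zero' (χ := inflIrr hφ θ) (ψ := ξ) hM hns
        show regInner p (inflIrr hφ θ : CenExt c → ℂ) (ξ : CenExt c → ℂ) = 0
        rw [regInner_eq_pairReg, this, mul_zero]
      constructor
      · have h := hα ξ
        rw [hΦ₁, h0 c₁ fun θ hθ => hsupp θ (Or.inl hθ), mul_zero] at h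
        exact_mod_cast h.symm
      · have h := hβ ξ
        rw [hΦ₂, h0 c₂ fun θ hθ => hsupp θ (Or.inr hθ), mul_zero] at h
        exact_mod_cast h.symm
    right
    set f : G → ℂ := fun g => ∑ e : CenExt c, if φ e = g then
      pRegularPart p (ξ : CenExt c → ℂ) e -
        regLift p φ (fun g => (α ξ : ℂ) + β ξ * (χ : G → ℂ) g) e else 0 with hf
    have hfreg : ∀ e : CenExt c, ¬ p ∣ orderOf e → f (φ e) =
        (ξ : CenExt c → ℂ) e - ((α ξ : ℂ) + β ξ * (χ : G → ℂ) (φ e)) := by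
      intro e he
      simp only [hf]
      rw [sum_fibre_regular hker hkp _ (fun x hx => by
        rw [pRegularPart_apply, regLift_apply, if_pos hx, if_pos hx, sub_self]) he,
        pRegularPart_apply, regLift_apply, if_neg he, if_neg he]
    have hfsing : ∀ g, p ∣ orderOf g → f g = 0 := by
      intro g hg
      simp only [hf]
      refine sum_eq_zero fun e _ => ?_
      split_ifs with h
      · rw [pRegularPart_apply, regLift_apply, if_pos (hg.trans (h ▸ orderOf_map_dvd φ e)),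
          if_pos (hg.trans (h ▸ orderOf_map_dvd φ e)), sub_self]
      · rfl
    have hfclass : IsClassFunction G f := by
      intro g y
      have ho : orderOf (y * g * y⁻¹) = orderOf g := (MulAut.conj y).orderOf_eq g
      by_cases hg : p ∣ orderOf g
      · rw [hfsing g hg, hfsing _ (by rwa [ho])]
      obtain ⟨e, rfl, he⟩ := exists_regular_lift (p := p) hφ hg
      obtain ⟨d, rfl⟩ := hφ y
      rw [← map_inv, ← map_mul, ← map_mul, hfreg _ he, hfreg _ (by
          rwa [show orderOf (d * e * d⁻¹) = orderOf e from (MulAut.conj d).orderOf_eq e]),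
        apply_conj_elem, map_mul, map_mul, map_inv, apply_conj_elem]
    set T : (G → ℂ) → ℂ := fun ψ => classInner (pRegularPart p (ξ : CenExt c → ℂ)) (fun e => ψ (φ e))
      - (p : ℂ)⁻¹ * regInner p (fun g => (α ξ : ℂ) + β ξ * (χ : G → ℂ) g) ψ with hT
    have hfT : ∀ ψ : G → ℂ, classInner f ψ = (p : ℂ) * T ψ := by
      intro ψ
      have hfF : regLift p φ f = pRegularPart p (ξ : CenExt c → ℂ) -
          regLift p φ (fun g => (α ξ : ℂ) + β ξ * (χ : G → ℂ) g) := by
        funext e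
        rw [Pi.sub_apply, regLift_apply, pRegularPart_apply, regLift_apply]
        by_cases he : p ∣ orderOf e
        · simp [he]
        · rw [if_neg he, if_neg he, if_neg he, hfreg e he]
      have h := classInner_regLift (p := p) hφ hker hcardk f ψ
      rw [hfF, classInner_sub_left, classInner_regLift (p := p) hφ hker hcardk] at h
      have hff : regInner p f ψ = classInner f ψ := by
        rw [regInner, classInner, classInner]
        congr 1
        refine sum_congr rfl fun g _ => ?_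
        rw [pRegularPart_apply]
        split_ifs with hg
        · rw [hfsing g hg]
        · rfl
      rw [hff] at h
      rw [hT]
      show _ = (p : ℂ) * (_ - _)
      rw [h, mul_inv_cancel_left₀ hp0]
    have hTΦ : ∀ (cc : IrrCharacter G → ℤ) (n : ℤ),
        (∀ g, p ∣ orderOf g → (∑ θ, (cc θ : ℂ) • (θ : G → ℂ) : G → ℂ) g = 0) →
        (p : ℂ) * classInner (regLift p φ (∑ θ, (cc θ : ℂ) • (θ : G → ℂ))) (ξ : CenExt c → ℂ) = n →
        (n : ℂ) = α ξ * cc (trivIrr G) + β ξ * cc χ →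
        classInner f (∑ θ, (cc θ : ℂ) • (θ : G → ℂ)) = 0 := by
      intro cc n hs hn hn'
      rw [hfT, hT]
      have e1 : classInner (pRegularPart p (ξ : CenExt c → ℂ))
          (fun e => (∑ θ, (cc θ : ℂ) • (θ : G → ℂ) : G → ℂ) (φ e)) =
          classInner (ξ : CenExt c → ℂ) (regLift p φ (∑ θ, (cc θ : ℂ) • (θ : G → ℂ))) := by
        rw [classInner, classInner]
        congr 1
        refine sum_congr rfl fun e _ => ?_
        rw [pRegularPart_apply, regLift_apply]
        split_ifs <;> simp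
      have e2 : classInner (fun g => (α ξ : ℂ) + β ξ * (χ : G → ℂ) g)
          (∑ θ, (cc θ : ℂ) • (θ : G → ℂ)) = n := by
        rw [show (fun g => (α ξ : ℂ) + β ξ * (χ : G → ℂ) g) =
          (α ξ : ℂ) • (trivIrr G : G → ℂ) + (β ξ : ℂ) • (χ : G → ℂ) from funext fun g => by simp [trivIrr_apply],
          classInner_add_left, classInner_smul_left, classInner_smul_left,
          classInner_conj_symm (trivIrr G : G → ℂ), classInner_sum_irr,
          classInner_conj_symm (χ : G → ℂ), classInner_sum_irr, hn', map_intCast, map_intCast]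
      show (p : ℂ) * (_ - _) = 0
      rw [e1, hregΦ _ hs, e2, classInner_conj_symm, ← hn]
      have hr' : conj (classInner (regLift p φ (∑ θ, (cc θ : ℂ) • (θ : G → ℂ))) (ξ : CenExt c → ℂ)) =
          classInner (regLift p φ (∑ θ, (cc θ : ℂ) • (θ : G → ℂ))) (ξ : CenExt c → ℂ) := by
        rw [(eq_inv_mul_iff_mul_eq₀ hp0).2 hn, map_mul, map_inv₀, Complex.conj_natCast,
          map_intCast]
      rw [hr']
      field_simp
      ring
    have hclassInner_pair : ∀ θ : IrrCharacter G, θ ∈ YF → classInner f (θ : G → ℂ) =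
        δ * (classInner f (trivIrr G : G → ℂ) + a * classInner f (χ : G → ℂ)) := by
      intro θ hθ
      rw [classInner, classInner, classInner]
      simp only [mul_sum, ← sum_add_distrib]
      refine sum_congr rfl fun g _ => ?_
      by_cases hg : p ∣ orderOf g
      · rw [hfsing g hg]; ring
      · rw [hηreg θ hθ g hg, map_mul, map_add, map_mul, map_intCast, map_intCast, trivIrr_apply]
        simp only [map_one]; ring
    have h1 := hTΦ c₁ (α ξ) hsing.1 (hα ξ) (by simp [hc₁, Ne.symm hne, hne, htY, hχY])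
    have h2 := hTΦ c₂ (β ξ) hsing.2 (hβ ξ) (by simp [hc₂, Ne.symm hne, hne, htY, hχY])
    rw [classInner_sum_right] at h1 h2
    simp only [classInner_smul_right, map_intCast] at h1 h2
    rw [hsum₁, sum_congr rfl hclassInner_pair, sum_const, nsmul_eq_mul, hYcard] at h1
    rw [hsum₂, sum_congr rfl hclassInner_pair, sum_const, nsmul_eq_mul, hYcard] at h2
    set T1 := classInner f (trivIrr G : G → ℂ)
    set T2 := classInner f (χ : G → ℂ)
    have e1 : (1 + (r : ℂ)) * T1 + a * r * T2 = 0 := by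
      linear_combination h1 - ((r : ℂ) * (T1 + a * T2)) * hδC
    have e2 : a * r * T1 + (1 + (r : ℂ)) * T2 = 0 := by
      linear_combination h2 - ((r : ℂ) * (T1 + a * T2) * a) * hδC - (r : ℂ) * T2 * haC
    have hdet : (1 + 2 * (r : ℂ)) ≠ 0 := by exact_mod_cast (by omega : 1 + 2 * r ≠ 0)
    have hT1 : T1 = 0 := by
      refine mul_left_cancel₀ hdet ?_
      linear_combination (1 + (r : ℂ)) * e1 - (a * r : ℂ) * e2 + (r : ℂ) ^ 2 * T1 * haC
    have hT2 : T2 = 0 := by
      refine mul_left_cancel₀ hdet ?_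
      linear_combination (1 + (r : ℂ)) * e2 - (a * r : ℂ) * e1 + (r : ℂ) ^ 2 * T2 * haC
    have hf0 : f = 0 := by
      refine eq_zero_of_forall_classInner hfclass fun θ => ?_
      by_cases hθ : θ ∈ principalBlock M G
      · rcases (hB θ).1 hθ with rfl | rfl | h
        · exact hT1
        · exact hT2
        · rw [hclassInner_pair θ h]
          show (δ : ℂ) * (T1 + a * T2) = 0
          rw [hT1, hT2]; ring
      · rw [hfT, hT]
        show (p : ℂ) * (_ - _) = 0
        have hns : ¬ SameBlock M (ξ : CenExt c → ℂ) (inflIrr hφ θ : CenExt c → ℂ) := fun hs => hθ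
          ((hinflB θ).1 (sameBlock_trans hξ hs))
        have z1 : classInner (pRegularPart p (ξ : CenExt c → ℂ)) (fun e => (θ : G → ℂ) (φ e)) = 0 := by
          show regInner p (ξ : CenExt c → ℂ) (inflIrr hφ θ : CenExt c → ℂ) = 0
          rw [regInner_eq_pairReg, CfsgLib.BlockLocal.pairReg_eq_zero' hM hns, mul_zero]
        have z2 : ∀ θ' ∈ principalBlock M G, regInner p (θ' : G → ℂ) (θ : G → ℂ) = 0 := fun θ' h => by
          rw [regInner_eq_pairReg, CfsgLib.BlockLocal.pairReg_eq_zero' hM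
            (fun hs => hθ (sameBlock_trans h hs)), mul_zero]
        have z3 : regInner p (fun g => (α ξ : ℂ) + β ξ * (χ : G → ℂ) g) (θ : G → ℂ) = 0 := by
          have e : pRegularPart p (fun g => (α ξ : ℂ) + β ξ * (χ : G → ℂ) g) =
              (α ξ : ℂ) • pRegularPart p (trivIrr G : G → ℂ) + (β ξ : ℂ) • pRegularPart p (χ : G → ℂ) := by
            funext g
            simp only [Pi.add_apply, Pi.smul_apply, pRegularPart_apply, smul_eq_mul, trivIrr_apply]
            split_ifs <;> ring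
          rw [regInner, e, classInner_add_left, classInner_smul_left, classInner_smul_left,
            ← regInner, ← regInner, z2 _ ((hB _).2 (Or.inl rfl)), z2 _ ((hB _).2 (Or.inr (Or.inl rfl)))]
          ring
        rw [z1, z3]; ring
    intro e he
    have := hfreg e he
    rw [hf0] at this
    simp only [Pi.zero_apply] at this
    linear_combination -this
  -- Gram relations
  have hgram : ∀ (c' c'' : IrrCharacter G → ℤ) (n n' : IrrCharacter (CenExt c) → ℤ),
      (∀ g, p ∣ orderOf g → (∑ θ, (c'' θ : ℂ) • (θ : G → ℂ) : G → ℂ) g = 0) →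
      IsClassFunction G (∑ θ, (c' θ : ℂ) • (θ : G → ℂ)) →
      (∀ ξ : IrrCharacter (CenExt c),
        (p : ℂ) * classInner (regLift p φ (∑ θ, (c' θ : ℂ) • (θ : G → ℂ))) (ξ : CenExt c → ℂ) = n ξ) →
      (∀ ξ : IrrCharacter (CenExt c),
        (p : ℂ) * classInner (regLift p φ (∑ θ, (c'' θ : ℂ) • (θ : G → ℂ))) (ξ : CenExt c → ℂ) = n' ξ) →
      (∑ ξ ∈ S, (n ξ : ℂ) * n' ξ) = ∑ θ, (c' θ : ℂ) * c'' θ := by
    intro c' c'' n n' hs hcl hn hn'
    rw [sum_congr rfl (g := fun ξ : IrrCharacter (CenExt c) => (p : ℂ) ^ 2 *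
      (classInner (regLift p φ (∑ θ, (c' θ : ℂ) • (θ : G → ℂ))) (ξ : CenExt c → ℂ) *
        conj (classInner (regLift p φ (∑ θ, (c'' θ : ℂ) • (θ : G → ℂ))) (ξ : CenExt c → ℂ))))
      (fun ξ _ => by
        have h' := congrArg conj (hn' ξ)
        rw [map_mul, Complex.conj_natCast, map_intCast] at h'
        rw [← h', ← hn ξ]; ring), ← mul_sum,
      sum_filter_gram hφ hker hcardk hz hz1 hζ hcl, hregΦ _ hs, classInner_generalized_sum]
    push_cast
    field_simp
  have g11 : (∑ ξ ∈ S, (α ξ : ℂ) * α ξ) = 1 + r := by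
    rw [hgram c₁ c₁ α α hsing.1 hclassΦ.1 hα hα, hsum₁, sum_congr rfl (g := fun _ => (δ : ℂ))
      fun η hη => by simp [hc₁, show η ≠ trivIrr G from fun e => htY (e ▸ hη), hη]]
    simp [hc₁, hYcard]
    linear_combination (r : ℂ) * hδC
  have g12 : (∑ ξ ∈ S, (α ξ : ℂ) * β ξ) = a * r := by
    rw [hgram c₁ c₂ α β hsing.2 hclassΦ.1 hα hβ, hsum₁, sum_congr rfl (g := fun _ => (δ : ℂ) * a)
      fun η hη => by simp [hc₂, show η ≠ χ from fun e => hχY (e ▸ hη), hη]]
    simp [hc₂, hYcard, Ne.symm hne, htY]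
    linear_combination (r : ℂ) * a * hδC
  have g22 : (∑ ξ ∈ S, (β ξ : ℂ) * β ξ) = 1 + r := by
    rw [hgram c₂ c₂ β β hsing.2 hclassΦ.2 hβ hβ, hsum₂, sum_congr rfl (g := fun _ => (δ : ℂ) * a)
      fun η hη => by simp [hc₂, show η ≠ χ from fun e => hχY (e ▸ hη), hη]]
    simp [hc₂, hYcard]
    linear_combination (r : ℂ) * a * a * hδC + (r : ℂ) * haC
  -- the involution
  obtain ⟨t', rfl, ht'r⟩ := exists_regular_lift (p := p) hφ htreg
  have ht' : t' * t' = 1 := by
    refine regular_lift_unique hker hkp ?_ (by rw [orderOf_one]; exact hp.out.not_dvd_one) ?_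
    · intro h
      rw [← pow_two] at h
      exact ht'r (h.trans (orderOf_pow_dvd 2))
    · rw [map_mul, ht, map_one]
  have hval : ∀ ξ : IrrCharacter (CenExt c),
      (α ξ : ℂ) * (ξ : CenExt c → ℂ) t' ^ 2 / (ξ : CenExt c → ℂ) 1 =
        α ξ * (α ξ + β ξ * v) ^ 2 / (α ξ + β ξ * z₁) ∧
      ((α ξ : ℂ) + β ξ * z₁ ≠ 0 ∨ (α ξ = 0 ∧ β ξ = 0)) := by
    intro ξ
    rcases hcase ξ with ⟨h, h'⟩ | h
    · exact ⟨by simp [h], Or.inr ⟨h, h'⟩⟩
    · have h1 := h 1 (by rw [orderOf_one]; exact hp.out.not_dvd_one)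
      rw [map_one, hχ1] at h1
      exact ⟨by rw [h t' ht'r, h1], Or.inl (h1 ▸ apply_one_ne_zero_of_isIrr ξ.2)⟩
  have hTid : (∑ ξ ∈ S, (α ξ : ℂ) * β ξ ^ 2 / (α ξ + β ξ * z₁)) = r / (1 + a * z₁) := by
    have hcount := sum_filter_pairs (p := p) hφ hker hcardk hz hz1 hζ hp2 hclassΦ.1 hsing.1 ht'
    have hG : ∑ i ∈ univ.filter (IsConj (φ t')), ∑ j ∈ univ.filter (IsConj (φ t')), Φ₁ (i * j) =
        ((Subgroup.centralizer ({φ t'} : Set G)).index : ℂ) ^ 2 *
          (1 + r * (1 + a * v) ^ 2 / (1 + a * z₁)) := by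
      simp only [hΦ₁, hΦapp]
      conv_lhs => arg 2; ext i; rw [sum_comm]
      rw [sum_comm]
      simp only [← mul_sum, sum_class_pairs]
      rw [hsum₁, sum_congr rfl (g := fun _ =>
        ((Subgroup.centralizer ({φ t'} : Set G)).index : ℂ) ^ 2 * (δ * (1 + a * v)) ^ 2 /
          (δ * (1 + a * z₁))) fun η hη => by
        rw [hηreg η hη _ htreg, hηreg η hη 1 hone, hχ1], sum_const, nsmul_eq_mul, hYcard]
      simp only [trivIrr_apply]
      have hδ0 : (δ : ℂ) ≠ 0 := fun e => by simp [e] at hδC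
      field_simp
      ring_nf
      linear_combination (((Subgroup.centralizer ({φ t'} : Set G)).index : ℂ) ^ 2 *
        (r * (1 + a * v) ^ 2)) * hδC
    rw [hG] at hcount
    have hidx : ((Subgroup.centralizer ({φ t'} : Set G)).index : ℂ) ^ 2 ≠ 0 :=
      pow_ne_zero _ (Nat.cast_ne_zero.2 Subgroup.index_ne_zero_of_finite)
    have h := mul_left_cancel₀ hidx hcount
    rw [mul_sum, ← hS, sum_congr rfl (g := fun ξ : IrrCharacter (CenExt c) =>
      (α ξ : ℂ) * α ξ + (z₁ : ℂ) * ((α ξ : ℂ) * β ξ) + 2 * (v - z₁) * ((α ξ : ℂ) * β ξ) +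
        (v - z₁) ^ 2 * ((α ξ : ℂ) * β ξ ^ 2 / (α ξ + β ξ * z₁)))
      (fun ξ _ => by
        rw [show (p : ℂ) * (classInner (regLift p φ Φ₁) (ξ : CenExt c → ℂ) *
            (ξ : CenExt c → ℂ) t' ^ 2 / (ξ : CenExt c → ℂ) 1) =
          ((p : ℂ) * classInner (regLift p φ Φ₁) (ξ : CenExt c → ℂ)) * (ξ : CenExt c → ℂ) t' ^ 2 /
            (ξ : CenExt c → ℂ) 1 by ring, hα ξ, (hval ξ).1,
          sq_mul_div_expand ((hval ξ).2.imp_right fun h => by simp [h.1])]
        ring),
      sum_add_distrib, sum_add_distrib, sum_add_distrib, ← mul_sum, ← mul_sum, ← mul_sum,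
      g11, g12] at h
    have hvz : (v - (z₁ : ℂ)) ^ 2 ≠ 0 := pow_ne_zero _ (sub_ne_zero.2 (hχ1 ▸ hv))
    refine mul_left_cancel₀ hvz ?_
    have key : ∀ w : ℂ, w ≠ 0 → (r : ℂ) * (w + a * (v - z₁)) ^ 2 / w =
        r * w + 2 * (v - z₁) * (a * r) + (v - z₁) ^ 2 * (r / w) := fun w hw => by
      field_simp
      linear_combination ((r : ℂ) * (v - z₁) ^ 2) * haC
    have k := key _ hw
    rw [show (1 : ℂ) + a * z₁ + a * (v - z₁) = 1 + a * v by ring] at k
    linear_combination h + k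
  -- the rows with a nonzero difference
  set dd : IrrCharacter (CenExt c) → ℤ := fun ξ => a * β ξ - α ξ with hdd
  have hd2 : ∑ ξ ∈ S, dd ξ ^ 2 = 2 := by
    apply Int.cast_injective (α := ℂ)
    push_cast [hdd]
    rw [sum_congr rfl (g := fun ξ : IrrCharacter (CenExt c) => (β ξ : ℂ) * β ξ + (α ξ : ℂ) * α ξ -
      2 * a * ((α ξ : ℂ) * β ξ)) (fun ξ _ => by linear_combination ((β ξ : ℂ) * β ξ) * haC),
      sum_sub_distrib, sum_add_distrib, ← mul_sum, g11, g12, g22]
    linear_combination -2 * (r : ℂ) * haC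
  set S' := S.filter fun ξ => dd ξ ≠ 0 with hS'
  have hrest : ∀ ξ ∈ S, ξ ∉ S' → dd ξ = 0 := fun ξ hξ h => by
    simpa [hS', hξ] using h
  have hd2' : ∑ ξ ∈ S', dd ξ ^ 2 = 2 := by
    rw [← hd2]
    exact sum_subset (filter_subset _ _) fun ξ hξ h => by rw [hrest ξ hξ h]; ring
  have hd1 : ∀ ξ ∈ S', dd ξ ^ 2 = 1 := by
    intro ξ hξ
    have hle := single_le_sum (f := fun ξ => dd ξ ^ 2) (fun ξ _ => sq_nonneg _) hξ
    rw [hd2'] at hle
    have hne0 : dd ξ ≠ 0 := (mem_filter.1 hξ).2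
    have hlo : -1 ≤ dd ξ := by nlinarith
    have hhi : dd ξ ≤ 1 := by nlinarith
    rcases (show dd ξ = 1 ∨ dd ξ = -1 by omega) with e | e <;> rw [e] <;> norm_num
  obtain ⟨ξ₁, ξ₂, h12, hpair⟩ := card_eq_two.1 (show S'.card = 2 by
    have := hd2'
    rw [sum_congr rfl hd1] at this
    simp at this
    exact_mod_cast this)
  have hsum : a * (β ξ₁ * dd ξ₁ + β ξ₂ * dd ξ₂) = 1 := by
    rw [← sum_pair (f := fun ξ => β ξ * dd ξ) h12, ← hpair]
    rw [sum_subset (filter_subset _ _) fun ξ hξ h => by rw [hrest ξ hξ h, mul_zero]]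
    apply Int.cast_injective (α := ℂ)
    push_cast [hdd]
    rw [mul_sum, sum_congr rfl (g := fun ξ : IrrCharacter (CenExt c) => (β ξ : ℂ) * β ξ -
      a * ((α ξ : ℂ) * β ξ)) (fun ξ _ => by linear_combination ((β ξ : ℂ) * β ξ) * haC),
      sum_sub_distrib, ← mul_sum, g22, g12]
    linear_combination -(r : ℂ) * haC
  have hD : ∀ ξ ∈ S', (α ξ : ℂ) + β ξ * z₁ ≠ 0 := fun ξ hξ =>
    (hval ξ).2.resolve_right fun h => (mem_filter.1 hξ).2 (by simp [hdd, h.1, h.2])
  have hm1 : ξ₁ ∈ S' := by rw [hpair]; simp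
  have hm2 : ξ₂ ∈ S' := by rw [hpair]; simp
  have heq : α ξ₁ * β ξ₁ * dd ξ₁ * (α ξ₂ + β ξ₂ * z₁) +
      α ξ₂ * β ξ₂ * dd ξ₂ * (α ξ₁ + β ξ₁ * z₁) = 0 := by
    have h0 : ∑ ξ ∈ S, (α ξ : ℂ) * β ξ * dd ξ / (α ξ + β ξ * z₁) = 0 := by
      rw [sum_congr rfl (g := fun ξ : IrrCharacter (CenExt c) =>
        ((a : ℂ) + z₁) * ((α ξ : ℂ) * β ξ ^ 2 / (α ξ + β ξ * z₁)) - (α ξ : ℂ) * β ξ) (fun ξ _ => by
        rcases (hval ξ).2 with h | h
        · push_cast [hdd]; field_simp; ring
        · simp [h.1, h.2]), sum_sub_distrib, ← mul_sum, hTid, g12]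
      field_simp
      linear_combination -(r : ℂ) * (z₁ : ℂ) * haC
    rw [← sum_subset (filter_subset _ _) (fun ξ hξ h => by rw [hrest ξ hξ h]; simp), ← hS', hpair,
      sum_pair h12] at h0
    have n1 := hD ξ₁ hm1
    have n2 := hD ξ₂ hm2
    rw [div_add_div _ _ n1 n2, div_eq_zero_iff] at h0
    have h0' := h0.resolve_right (mul_ne_zero n1 n2)
    apply Int.cast_injective (α := ℂ)
    push_cast
    linear_combination h0'
  have hlin : ∀ ξ ∈ S', β ξ = 0 → (α ξ = 1 ∨ α ξ = -1) → False := by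
    intro ξ hξ hb ha'
    rcases hcase ξ with h | h
    · rcases ha' with e | e <;> simp [e] at h
    have h1 := h 1 (by rw [orderOf_one]; exact hp.out.not_dvd_one)
    rw [hb, Int.cast_zero, zero_mul, add_zero] at h1
    have hdeg := (charDegree_spec ξ).1
    have hone' : (ξ : CenExt c → ℂ) 1 = 1 := by
      rcases ha' with e | e
      · rw [h1, e, Int.cast_one]
      · rw [h1, e] at hdeg
        have h2 : (-1 : ℤ) = (charDegree (ξ : CenExt c → ℂ) : ℤ) :=
          Int.cast_injective (α := ℂ) (by push_cast; push_cast at hdeg; exact hdeg)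
        omega
    have hk := CfsgLib.RealChar.commutator_kernel_of_degree_one ξ.2 hone' x' y'
    rw [← hzdef] at hk
    have hzS := (mem_filter.1 (mem_filter.1 hξ).1).2
    rw [hk, hone', mul_one, eq_comm] at hzS
    exact hζ.ne_one hp.out.one_lt hzS
  rcases exists_unit_row ha2 haz rfl rfl (hd1 ξ₁ hm1) (hd1 ξ₂ hm2) hsum heq with ⟨hb, h⟩ | ⟨hb, h⟩
  · exact hlin ξ₁ hm1 hb h
  · exact hlin ξ₂ hm2 hb h

end CfsgLib.PermGroups
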