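import Cfsg.Agent.Lib.BrauerPairs.Domination
import Cfsg.Agent.Lib.BrauerCharacters.Projection
import Cfsg.Agent.Lib.RealChar.PiSection
import Cfsg.Agent.Lib.Involutions.QuaternionFuns
import Cfsg.Agent.Lib.Coherence.Virtual

/-!
# Class functions lifted to a central extension of prime order

A generalized character that vanishes off the `p`-regular elements lifts to the regular elements
of a central extension by a group of order `p`; projected to a faithful central character it has
integral coordinates, and it counts the pairs of involutions.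
-/

set_option autoImplicit false
set_option linter.unusedSectionVars false
set_option linter.style.haveILetI false

namespace CfsgLib.PermGroups

open Cfsg CfsgLib.CharTheory CfsgLib.Blocks CfsgLib.BrauerCharacters CfsgLib.BrauerPairs Finset
open scoped ComplexConjugate

variable {E : Type*} [Group E] [Fintype E] {G : Type*} [Group G] [Fintype G] {p : ℕ}
  [hp : Fact p.Prime] {φ : E →* G}

/-- A class function of the image read on the regular elements. -/
noncomputable def regLift (p : ℕ) (φ : E →* G) (Φ : G → ℂ) : E → ℂ :=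
  pRegularPart p fun e => Φ (φ e)

theorem regLift_apply (Φ : G → ℂ) (e : E) [Decidable (p ∣ orderOf e)] :
    regLift p φ Φ e = if p ∣ orderOf e then 0 else Φ (φ e) :=
  pRegularPart_apply p _ e

theorem isClassFunction_regLift {Φ : G → ℂ} (hΦ : IsClassFunction G Φ) :
    IsClassFunction E (regLift p φ Φ) :=
  isClassFunction_pRegularPart p fun x y => by
    show Φ (φ (y * x * y⁻¹)) = Φ (φ x)
    rw [map_mul, map_mul, map_inv]; exact hΦ _ _

/-- Two ordered involutions: sums of a character over pairs from one class. -/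
theorem sum_class_pairs [DecidableRel (IsConj : G → G → Prop)] (χ : IrrCharacter G) (t : G) :
    ∑ i ∈ univ.filter (IsConj t), ∑ j ∈ univ.filter (IsConj t), (χ : G → ℂ) (i * j) =
      ((Subgroup.centralizer ({t} : Set G)).index : ℂ) ^ 2 * (χ : G → ℂ) t ^ 2 / (χ : G → ℂ) 1 := by
  classical
  rw [sum_comm]
  have h : ∀ j, ∑ i ∈ univ.filter (IsConj t), (χ : G → ℂ) (i * j) =
      centralChar (χ : G → ℂ) t * (χ : G → ℂ) j := fun j => by
    convert sum_isConj_mul χ t j
  simp only [h, ← mul_sum]
  rw [sum_congr rfl (g := fun _ => (χ : G → ℂ) t) (fun j hj => by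
    obtain ⟨c, hc⟩ := isConj_iff.1 (mem_filter.1 hj).2
    rw [← hc, apply_conj_elem]), sum_const, nsmul_eq_mul, ← Fintype.card_subtype,
    ← Nat.card_eq_fintype_card, card_isConj, centralChar]
  ring

variable (hφ : Function.Surjective φ) (hker : φ.ker ≤ Subgroup.center E) (hcard : Nat.card φ.ker = p)
include hφ hker hcard

theorem isPGroup_ker : IsPGroup p φ.ker := IsPGroup.of_card (n := 1) (by rw [hcard, pow_one])

theorem card_eq_mul : Nat.card E = p * Nat.card G := by
  rw [← Subgroup.card_mul_index φ.ker, hcard, Subgroup.index_ker,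
    MonoidHom.range_eq_top.2 hφ, Subgroup.card_top]

theorem sum_pRegularPart_comp (f : G → ℂ) :
    ∑ e : E, pRegularPart p (fun e => f (φ e)) e = ∑ g : G, pRegularPart p f g := by
  classical
  rw [← sum_fiberwise univ φ]
  refine sum_congr rfl fun g _ => ?_
  rw [sum_filter]
  by_cases hg : p ∣ orderOf g
  · rw [pRegularPart_apply, if_pos hg]
    refine sum_eq_zero fun e _ => ?_
    split_ifs with he
    · rw [pRegularPart_apply, if_pos (hg.trans (he ▸ orderOf_map_dvd φ e))]
    · rfl
  · obtain ⟨e, rfl, he⟩ := exists_regular_lift (p := p) hφ hg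
    rw [sum_fibre_regular hker (isPGroup_ker hφ hker hcard) _ (fun x hx => by
      rw [pRegularPart_apply, if_pos hx]) he, pRegularPart_apply, pRegularPart_apply,
      if_neg he, if_neg hg]

theorem classInner_regLift (Φ Ψ : G → ℂ) :
    classInner (regLift p φ Φ) (fun e => Ψ (φ e)) = (p : ℂ)⁻¹ * regInner p Φ Ψ := by
  classical
  have h := sum_pRegularPart_comp hφ hker hcard fun g => Φ g * conj (Ψ g)
  rw [classInner, regInner, classInner, card_eq_mul hφ hker hcard, Nat.cast_mul, mul_inv, mul_assoc]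
  congr 2
  refine Eq.trans (sum_congr rfl fun e _ => ?_) (h.trans (sum_congr rfl fun g _ => ?_))
  · rw [regLift_apply, pRegularPart_apply]; split_ifs <;> ring
  · rw [pRegularPart_apply, pRegularPart_apply]; split_ifs <;> ring

omit hcard hφ in
/-- The kernel acts by scalars. -/
theorem apply_ker_mul (ξ : IrrCharacter E) {z : E} (hz : z ∈ φ.ker) (e : E) :
    (ξ : E → ℂ) (z * e) = (ξ : E → ℂ) z / (ξ : E → ℂ) 1 * (ξ : E → ℂ) e := by
  classical
  have hc : ∀ x, IsConj z x ↔ z = x := fun x => by
    refine ⟨fun h => ?_, fun h => h ▸ IsConj.refl z⟩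
    obtain ⟨c, rfl⟩ := isConj_iff.1 h
    rw [Subgroup.mem_center_iff.1 (hker hz) c, mul_inv_cancel_right]
  have h := sum_isConj_mul ξ z e
  simp only [hc, sum_filter, sum_ite_eq, mem_univ, if_true] at h
  rw [h, centralChar, Subgroup.centralizer_eq_top_iff_subset.2 (Set.singleton_subset_iff.2 (hker hz)),
    Subgroup.index_top, Nat.cast_one, one_mul]

omit hcard hφ in
theorem apply_ker_pow_mul (ξ : IrrCharacter E) {z : E} (hz : z ∈ φ.ker) (e : E) (k : ℕ) :
    (ξ : E → ℂ) (z ^ k * e) = ((ξ : E → ℂ) z / (ξ : E → ℂ) 1) ^ k * (ξ : E → ℂ) e := by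
  induction k with
  | zero => simp
  | succ k ih => rw [pow_succ', mul_assoc, apply_ker_mul hker ξ hz, ih, pow_succ']; ring

variable {z : E} (hz : z ∈ φ.ker) (hz1 : z ≠ 1)
include hz hz1

theorem orderOf_ker_elem : orderOf z = p := by
  refine ((Nat.dvd_prime hp.out).1 ?_).resolve_left fun h => hz1 (orderOf_eq_one_iff.1 h)
  rw [← hcard]
  exact Subgroup.orderOf_dvd_natCard _ hz

theorem translate_singular {e : E} (he : ¬ p ∣ orderOf e) {k : ℕ} (hk : k < p) (hk0 : k ≠ 0) :
    p ∣ orderOf (z ^ k * e) := by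
  by_contra h
  have h1 := regular_lift_unique hker (isPGroup_ker hφ hker hcard) h he (by
    rw [map_mul, MonoidHom.mem_ker.1 (pow_mem hz k), one_mul])
  have h2 := orderOf_dvd_of_pow_eq_one (mul_eq_right.1 h1)
  rw [orderOf_ker_elem hφ hker hcard hz hz1] at h2
  exact hk0 (Nat.eq_zero_of_dvd_of_lt h2 hk)

variable {ζ : ℂ} (hζ : IsPrimitiveRoot ζ p)
include hζ

open scoped Classical in
/-- Projection of a class function to the central character `ζ`. -/
theorem sum_filter_expansion [Fintype (IrrCharacter E)] {F : E → ℂ} (hF : IsClassFunction E F)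
    (e : E) :
    ∑ ξ ∈ univ.filter (fun ξ : IrrCharacter E => (ξ : E → ℂ) z = ζ * (ξ : E → ℂ) 1),
        classInner F (ξ : E → ℂ) * (ξ : E → ℂ) e =
      (p : ℂ)⁻¹ * ∑ k ∈ range p, ζ⁻¹ ^ k * F (z ^ k * e) := by
  have hp0 : (p : ℂ) ≠ 0 := Nat.cast_ne_zero.2 hp.out.ne_zero
  have hexp : ∀ x, F x = ∑ ξ : IrrCharacter E, classInner F (ξ : E → ℂ) * (ξ : E → ℂ) x := fun x => by
    have := congrFun (eq_sum_classInner hF) x
    simpa [Finset.sum_apply] using this
  simp only [hexp (z ^ _ * e), apply_ker_pow_mul hker _ hz, mul_sum]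
  rw [sum_comm, sum_filter]
  refine sum_congr rfl fun ξ _ => ?_
  have h0 := apply_one_ne_zero_of_isIrr ξ.2
  set l := (ξ : E → ℂ) z / (ξ : E → ℂ) 1 with hl
  have hlp : l ^ p = 1 := by
    have h1 := apply_ker_pow_mul hker ξ hz 1 p
    rw [← hl, mul_one, ← orderOf_ker_elem hφ hker hcard hz hz1, pow_orderOf_eq_one,
      orderOf_ker_elem hφ hker hcard hz hz1] at h1
    exact (mul_left_eq_self₀.1 h1.symm).resolve_right h0
  have hgeom : ∑ k ∈ range p, (ζ⁻¹ * l) ^ k = if (ξ : E → ℂ) z = ζ * (ξ : E → ℂ) 1 then (p : ℂ) else 0 := by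
    split_ifs with h
    · have : ζ⁻¹ * l = 1 := by
        rw [hl, h, mul_div_cancel_right₀ _ h0, inv_mul_cancel₀ (hζ.ne_zero hp.out.ne_zero)]
      simp [this]
    · have hne : ζ⁻¹ * l ≠ 1 := fun e => h (by
        rw [inv_mul_eq_one₀ (hζ.ne_zero hp.out.ne_zero)] at e
        rw [e, hl, div_mul_cancel₀ _ h0])
      rw [geom_sum_eq hne, mul_pow, inv_pow, hζ.pow_eq_one, inv_one, one_mul, hlp, sub_self, zero_div]
  rw [sum_congr rfl (g := fun k => (p : ℂ)⁻¹ * (classInner F (ξ : E → ℂ) * (ξ : E → ℂ) e) * (ζ⁻¹ * l) ^ k)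
    (fun k _ => by rw [mul_pow]; ring), ← mul_sum, hgeom]
  split_ifs
  · field_simp
  · rw [mul_zero]

omit hζ in
theorem translate_sum_eq (Φ : G → ℂ) {e : E} (he : ¬ p ∣ orderOf e) (c : ℕ → ℂ) (hc : c 0 = 1) :
    ∑ k ∈ range p, c k * regLift p φ Φ (z ^ k * e) = regLift p φ Φ e := by
  classical
  rw [sum_eq_single_of_mem 0 (mem_range.2 hp.out.pos) fun k hk hk0 => by
    rw [regLift_apply, if_pos (translate_singular hφ hker hcard hz hz1 he (mem_range.1 hk) hk0),
      mul_zero], hc, one_mul, pow_zero, one_mul]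

open scoped Classical in
/-- The Gram matrix on one central character. -/
theorem sum_filter_gram [Fintype (IrrCharacter E)] {Φ Ψ : G → ℂ} (hΦ : IsClassFunction G Φ) :
    ∑ ξ ∈ univ.filter (fun ξ : IrrCharacter E => (ξ : E → ℂ) z = ζ * (ξ : E → ℂ) 1),
        classInner (regLift p φ Φ) (ξ : E → ℂ) * conj (classInner (regLift p φ Ψ) (ξ : E → ℂ)) =
      ((p : ℂ) ^ 2)⁻¹ * regInner p Φ Ψ := by
  have h := sum_filter_expansion hφ hker hcard hz hz1 hζ (isClassFunction_regLift (p := p) (φ := φ) hΦ)
  have hE : (Nat.card E : ℂ) ≠ 0 := Nat.cast_ne_zero.2 Nat.card_pos.ne'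
  rw [sum_congr rfl (g := fun ξ : IrrCharacter E => (Nat.card E : ℂ)⁻¹ * ∑ e : E,
      classInner (regLift p φ Φ) (ξ : E → ℂ) * (ξ : E → ℂ) e * conj (regLift p φ Ψ e)) (fun ξ _ => by
    rw [classInner_conj_symm (regLift p φ Ψ), Complex.conj_conj]
    conv_lhs => arg 2; rw [classInner]
    simp only [mul_sum]
    exact sum_congr rfl fun e _ => by ring), ← mul_sum, sum_comm]
  simp only [← sum_mul, h]
  rw [pow_two, mul_inv, mul_assoc, ← classInner_regLift hφ hker hcard, classInner]
  conv_rhs => rw [mul_sum, mul_sum]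
  conv_lhs => rw [mul_sum]
  refine sum_congr rfl fun e _ => ?_
  rw [regLift_apply Ψ e]
  by_cases he : p ∣ orderOf e
  · rw [if_pos he, regLift_apply Φ e, if_pos he]; simp
  · rw [if_neg he, translate_sum_eq hφ hker hcard hz hz1 Φ he _ (pow_zero _)]; ring

omit hζ in
/-- The product of regular lifts of two involutions of the image is the regular lift, or singular
together with its image. -/
theorem regular_mul_of_regular (hp2 : p ≠ 2) {i j : E} (hi : i * i = 1) (hj : j * j = 1)
    (h : ¬ p ∣ orderOf (φ (i * j))) : ¬ p ∣ orderOf (i * j) := by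
  obtain ⟨w, hw, hwr⟩ := exists_regular_lift (p := p) hφ h
  have hi' : i⁻¹ = i := inv_eq_of_mul_eq_one_right hi
  have hj' : j⁻¹ = j := inv_eq_of_mul_eq_one_right hj
  set c := i * j * w⁻¹ with hc
  have hck : c ∈ φ.ker := by rw [MonoidHom.mem_ker, hc, map_mul, map_inv, hw, mul_inv_cancel]
  have hij : i * j = c * w := by rw [hc, inv_mul_cancel_right]
  have hcc : ∀ x, x * c = c * x := Subgroup.mem_center_iff.1 (hker hck)
  have h1 : i * (c * w) * i⁻¹ = (c * w)⁻¹ := by
    rw [← hij, mul_inv_rev, hj']; rw [hi']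
    rw [← mul_assoc i i j, hi, one_mul]
  have h2 : i * w * i⁻¹ = w⁻¹ := regular_lift_unique hker (isPGroup_ker hφ hker hcard)
    (by rwa [show orderOf (i * w * i⁻¹) = orderOf w from (MulAut.conj i).orderOf_eq w])
    (by rwa [orderOf_inv])
    (by
      have := congrArg φ h1
      simpa [MonoidHom.mem_ker.1 hck] using this)
  have h3 : c * w⁻¹ = w⁻¹ * c⁻¹ := by
    rw [← mul_inv_rev, ← h1, ← h2, ← mul_assoc i c w, hcc i]
    group
  rw [hcc w⁻¹ |>.symm] at h3
  have h4 : c ^ 2 = 1 := by
    rw [pow_two]; exact mul_eq_one_iff_eq_inv.2 (mul_left_cancel h3)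
  have h5 : c = 1 := by
    refine orderOf_eq_one_iff.1 (Nat.eq_one_of_dvd_coprimes
      ((Nat.coprime_primes hp.out Nat.prime_two).2 hp2) ?_ (orderOf_dvd_of_pow_eq_one h4))
    rw [← hcard]; exact Subgroup.orderOf_dvd_natCard _ hck
  rwa [hij, h5, one_mul]

open scoped Classical in
/-- Pairs of involutions counted in the image and on one central character. -/
theorem sum_filter_pairs [Fintype (IrrCharacter E)] (hp2 : p ≠ 2) {Φ : G → ℂ}
    (hΦ : IsClassFunction G Φ) (hsing : ∀ g, p ∣ orderOf g → Φ g = 0) {t : E} (ht : t * t = 1) :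
    ((Subgroup.centralizer ({φ t} : Set G)).index : ℂ) ^ 2 *
        (p * ∑ ξ ∈ univ.filter (fun ξ : IrrCharacter E => (ξ : E → ℂ) z = ζ * (ξ : E → ℂ) 1),
          classInner (regLift p φ Φ) (ξ : E → ℂ) * (ξ : E → ℂ) t ^ 2 / (ξ : E → ℂ) 1) =
      ∑ i ∈ univ.filter (IsConj (φ t)), ∑ j ∈ univ.filter (IsConj (φ t)), Φ (i * j) := by
  have hp0 : (p : ℂ) ≠ 0 := Nat.cast_ne_zero.2 hp.out.ne_zero
  have htr : ¬ p ∣ orderOf t := fun h => hp2 ((Nat.prime_dvd_prime_iff_eq hp.out Nat.prime_two).1
    (h.trans (orderOf_dvd_of_pow_eq_one (by rw [pow_two, ht]))))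
  have hreg : ∀ i, IsConj t i → ¬ p ∣ orderOf i := fun i hi => by
    obtain ⟨c, rfl⟩ := isConj_iff.1 hi
    rwa [show orderOf (c * t * c⁻¹) = orderOf t from (MulAut.conj c).orderOf_eq t]
  -- the two classes correspond
  have hinj : Set.InjOn φ {i | IsConj t i} := fun i hi j hj e =>
    regular_lift_unique hker (isPGroup_ker hφ hker hcard) (hreg i hi) (hreg j hj) e
  have himg : (univ.filter (IsConj t)).image φ = univ.filter (IsConj (φ t)) := by
    ext g
    simp only [mem_image, mem_filter, mem_univ, true_and]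
    constructor
    · rintro ⟨i, hi, rfl⟩; exact MonoidHom.map_isConj φ hi
    · intro hg
      obtain ⟨c, rfl⟩ := isConj_iff.1 hg
      obtain ⟨d, rfl⟩ := hφ c
      exact ⟨d * t * d⁻¹, isConj_iff.2 ⟨d, rfl⟩, by simp⟩
  have hidx : (Subgroup.centralizer ({φ t} : Set G)).index =
      (Subgroup.centralizer ({t} : Set E)).index := by
    rw [← card_isConj, ← card_isConj, Nat.card_eq_fintype_card, Nat.card_eq_fintype_card,
      Fintype.card_subtype, Fintype.card_subtype, ← himg,
      card_image_of_injOn (by simpa [Set.InjOn] using hinj)]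
  rw [hidx, ← himg, sum_image (by simpa [Set.InjOn] using hinj)]
  simp only [sum_image (s := univ.filter (IsConj t)) (g := φ) (by simpa [Set.InjOn] using hinj)]
  have hF : ∀ i ∈ univ.filter (IsConj t), ∀ j ∈ univ.filter (IsConj t),
      (p : ℂ)⁻¹ * Φ (φ i * φ j) = ∑ ξ ∈ univ.filter
        (fun ξ : IrrCharacter E => (ξ : E → ℂ) z = ζ * (ξ : E → ℂ) 1),
        classInner (regLift p φ Φ) (ξ : E → ℂ) * (ξ : E → ℂ) (i * j) := by
    intro i hi j hj
    rw [sum_filter_expansion hφ hker hcard hz hz1 hζ (isClassFunction_regLift hΦ), ← map_mul]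
    congr 1
    have hinv : ∀ k, IsConj t k → k * k = 1 := fun k hk => by
      obtain ⟨c, rfl⟩ := isConj_iff.1 hk
      calc c * t * c⁻¹ * (c * t * c⁻¹) = c * (t * t) * c⁻¹ := by group
        _ = 1 := by rw [ht]; group
    by_cases hs : p ∣ orderOf (φ (i * j))
    · rw [hsing _ hs, eq_comm]
      refine sum_eq_zero fun k _ => ?_
      rw [regLift_apply, if_pos (hs.trans ?_), mul_zero]
      have := orderOf_map_dvd φ (z ^ k * (i * j))
      rwa [map_mul φ (z ^ k), MonoidHom.mem_ker.1 (pow_mem hz k), one_mul] at this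
    · have hr := regular_mul_of_regular hφ hker hcard hz hz1 hp2 (hinv i (mem_filter.1 hi).2)
        (hinv j (mem_filter.1 hj).2) hs
      rw [translate_sum_eq hφ hker hcard hz hz1 Φ hr _ (pow_zero _), regLift_apply, if_neg hr]
  calc ((Subgroup.centralizer ({t} : Set E)).index : ℂ) ^ 2 * (p * ∑ ξ ∈ univ.filter
        (fun ξ : IrrCharacter E => (ξ : E → ℂ) z = ζ * (ξ : E → ℂ) 1),
          classInner (regLift p φ Φ) (ξ : E → ℂ) * (ξ : E → ℂ) t ^ 2 / (ξ : E → ℂ) 1)
      = (p : ℂ) * ∑ i ∈ univ.filter (IsConj t), ∑ j ∈ univ.filter (IsConj t), ∑ ξ ∈ univ.filter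
        (fun ξ : IrrCharacter E => (ξ : E → ℂ) z = ζ * (ξ : E → ℂ) 1),
          classInner (regLift p φ Φ) (ξ : E → ℂ) * (ξ : E → ℂ) (i * j) := by
        conv_rhs => arg 2; arg 2; ext i; rw [sum_comm]
        rw [sum_comm]
        simp only [mul_sum]
        refine sum_congr rfl fun ξ _ => ?_
        simp only [← mul_sum]
        rw [sum_class_pairs]
        ring
    _ = _ := by
        rw [mul_sum]
        refine sum_congr rfl fun i hi => ?_
        rw [mul_sum]
        refine sum_congr rfl fun j hj => ?_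
        rw [← hF i hi j hj, mul_inv_cancel_left₀ hp0]

omit hz hz1 hζ in
/-- `p` times the lift of a generalized character vanishing off the regular elements is one. -/
theorem exists_int_classInner {Φ : G → ℂ} (hΦ : IsGeneralizedCharacter G Φ)
    (hsing : ∀ g, p ∣ orderOf g → Φ g = 0) (ξ : IrrCharacter E) :
    ∃ n : ℤ, (p : ℂ) * classInner (regLift p φ Φ) (ξ : E → ℂ) = n := by
  classical
  have hgen : IsGeneralizedCharacter E ((p : ℂ) • regLift p φ Φ) := by
    refine CfsgLib.Brauer.isGeneralizedCharacter_of_elementary (fun x y => by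
      simp only [Pi.smul_apply, smul_eq_mul]
      rw [isClassFunction_regLift (IsGeneralizedCharacter.isClassFunction hΦ) x y]) fun H q hq hH => ?_
    haveI := Fintype.ofFinite H
    haveI := CfsgLib.Brauer.isNilpotent_of_isElementary hq hH
    refine CfsgLib.Involutions.isGeneralizedCharacter_of_inner (fun x y => by
      simp only [Pi.smul_apply, smul_eq_mul, Subgroup.coe_mul, Subgroup.coe_inv]
      rw [isClassFunction_regLift (IsGeneralizedCharacter.isClassFunction hΦ) (x : E) y]) fun l => ?_
    set N := Nat.card E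
    obtain ⟨k, hk⟩ := CfsgLib.RealChar.exists_isPiExp
      (((hp.out.coprime_iff_not_dvd).2 (Nat.not_dvd_ordCompl hp.out Nat.card_pos.ne')).symm.pow_right
        (N.factorization p) : Nat.Coprime (ordCompl[p] N) (p ^ N.factorization p))
    have hN : Nat.card H ∣ ordCompl[p] N * p ^ N.factorization p := by
      rw [mul_comm, Nat.ordProj_mul_ordCompl_eq_self]
      exact Subgroup.card_subgroup_dvd_card H
    obtain ⟨f, hf⟩ := hk.exists_hom hN
    set K : Subgroup H := φ.ker.comap H.subtype with hK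
    have hKp : Nat.card K ∣ p := by
      rw [← hcard]
      exact Subgroup.card_comap_dvd_of_injective φ.ker H.subtype H.subtype_injective
    let g : H → ℂ := fun x => Φ (φ x) * conj ((l : H → ℂ) (f x))
    let h : H → ℂ := fun x => if p ∣ orderOf x then 0 else g x
    have hfK : ∀ u : K, f (u : H) = 1 := fun u => by
      rw [hf]
      refine hk.pow_eq_one (orderOf_dvd_iff_pow_eq_one.1 ?_)
      have h1 : orderOf ((u : H) : E) ∣ p := by
        rw [← hcard]; exact Subgroup.orderOf_dvd_natCard _ u.2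
      rw [Subgroup.orderOf_coe] at h1
      refine h1.trans (dvd_pow_self p ?_)
      intro h0
      have : p ∣ N := hcard ▸ Subgroup.card_subgroup_dvd_card φ.ker
      exact absurd h0 (hp.out.factorization_pos_of_dvd Nat.card_pos.ne' this).ne'
    have hsum : ∀ x : H, g x = ∑ u : K, h ((u : H) * x) := by
      intro x
      have hgu : ∀ u : K, g ((u : H) * x) = g x := fun u => by
        simp only [g, map_mul, hfK u, one_mul, Subgroup.coe_mul,
          MonoidHom.mem_ker.1 (show ((u : H) : E) ∈ φ.ker from u.2)]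
      by_cases hs : p ∣ orderOf (φ x)
      · rw [show g x = 0 by simp only [g, hsing _ hs, zero_mul], eq_comm]
        refine sum_eq_zero fun u _ => ?_
        simp only [h, hgu]
        split_ifs
        · rfl
        · simp only [g, hsing _ hs, zero_mul]
      · have hfx : ¬ p ∣ orderOf (f x) := by
          rw [hf]
          intro hd
          exact Nat.not_dvd_ordCompl hp.out (Nat.card_pos (α := E)).ne'
            (hd.trans (orderOf_dvd_of_pow_eq_one (hk.pow_pow_eq_one hN x)))
        have hφf : φ (f x : E) = φ x := by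
          rw [hf, Subgroup.coe_pow, map_pow]
          refine hk.pow_eq_self (orderOf_dvd_iff_pow_eq_one.1 ?_)
          have hdvd : orderOf (φ (x : E)) ∣ N := (orderOf_map_dvd φ (x : E)).trans (orderOf_dvd_natCard _)
          rw [← Nat.ordProj_mul_ordCompl_eq_self N p] at hdvd
          exact (((hp.out.coprime_iff_not_dvd).2 hs).symm.pow_right _).dvd_of_dvd_mul_left hdvd
        have hu : f x * x⁻¹ ∈ K := by
          rw [hK, Subgroup.mem_comap, MonoidHom.mem_ker]
          simp [hφf]
        rw [sum_eq_single_of_mem (⟨_, hu⟩ : K) (mem_univ _)]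
        · simp only [h]
          rw [inv_mul_cancel_right, if_neg hfx]
          have := hgu ⟨_, hu⟩
          rw [inv_mul_cancel_right] at this
          rw [this]
        · intro u _ hne
          simp only [h]
          rw [if_pos]
          by_contra hr
          refine hne (Subtype.ext (eq_mul_inv_of_mul_eq (Subtype.ext ?_)))
          refine regular_lift_unique hker (isPGroup_ker hφ hker hcard)
            (by rwa [Subgroup.orderOf_coe]) (by rwa [Subgroup.orderOf_coe]) ?_
          rw [hφf, Subgroup.coe_mul, map_mul,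
            MonoidHom.mem_ker.1 (show ((u : H) : E) ∈ φ.ker from u.2), one_mul]
    obtain ⟨d, hd⟩ := exists_classInner_eq_int
      (CfsgLib.Coherence.isGeneralizedCharacter_comp hΦ (φ.comp H.subtype))
      (IsCharacter.isGeneralizedCharacter (CfsgLib.Coherence.isCharacter_comp
        (IsIrrCharacter.isCharacter l.2) f))
    have htot : ∑ x : H, g x = (Nat.card K : ℂ) * ∑ x : H, h x := by
      have htr : ∀ u : K, ∑ x : H, h ((u : H) * x) = ∑ x : H, h x := fun u =>
        Fintype.sum_equiv (Equiv.mulLeft (u : H)) _ _ fun _ => rfl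
      rw [sum_congr rfl fun x _ => hsum x, sum_comm]
      simp only [htr]
      rw [sum_const, card_univ, nsmul_eq_mul, Nat.card_eq_fintype_card]
    obtain ⟨r, hr⟩ := hKp
    refine ⟨(r : ℤ) * d, ?_⟩
    rw [classInner] at hd
    have hgd : (Nat.card H : ℂ)⁻¹ * ∑ x : H, g x = d := hd
    rw [htot] at hgd
    rw [classInner, Int.cast_mul, Int.cast_natCast, ← hgd]
    rw [sum_congr rfl (g := fun x : H => (p : ℂ) * h x) (fun x _ => ?_), ← mul_sum, hr, Nat.cast_mul]
    · ring
    · simp only [Pi.smul_apply, smul_eq_mul, h, g]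
      rw [regLift_apply, Subgroup.orderOf_coe]
      by_cases hx : p ∣ orderOf x
      · rw [if_pos hx, if_pos hx]; ring
      · rw [if_neg hx, if_neg hx, show f x = x from by
          rw [hf]
          refine hk.pow_eq_self (orderOf_dvd_iff_pow_eq_one.1 ?_)
          have hdvd : orderOf x ∣ N := (orderOf_dvd_natCard x).trans (Subgroup.card_subgroup_dvd_card H)
          rw [← Nat.ordProj_mul_ordCompl_eq_self N p] at hdvd
          exact (((hp.out.coprime_iff_not_dvd).2 hx).symm.pow_right _).dvd_of_dvd_mul_left hdvd]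
        ring
  obtain ⟨n, hn⟩ := exists_classInner_eq_int hgen (IsIrrCharacter.isGeneralizedCharacter ξ.2)
  exact ⟨n, by rw [← classInner_smul_left]; exact hn⟩

end CfsgLib.PermGroups
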