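import Mathlib.FieldTheory.Fixed
import Mathlib.FieldTheory.Finiteness
import Mathlib.GroupTheory.SpecificGroups.Cyclic
import Mathlib.Algebra.Module.End
import Mathlib.Tactic

/-!
An automorphism of prime order of an abelian group normalising a transitive cyclic group of
automorphisms, with two fixed points.
-/

set_option autoImplicit false
set_option linter.style.haveILetI false

namespace CfsgLib.PermGroups

/-- An automorphism of prime order `r` of a finite field with only two fixed elements forces
`|F| = 2 ^ r`. -/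
theorem card_eq_two_pow_of_aut {F : Type*} [Field F] [Finite F] (σ : RingAut F) {r : ℕ}
    (hr : r.Prime) (hσ : σ ^ r = 1) (hcard : 2 < Nat.card F)
    (hfix : ∀ x : F, σ x = x → x = 0 ∨ x = 1) : Nat.card F = 2 ^ r := by
  classical
  haveI := Fact.mk hr
  have hσ1 : σ ≠ 1 := by
    intro h
    haveI := Fintype.ofFinite F
    have hsub : (Finset.univ : Finset F) ⊆ {0, 1} := fun x _ => by
      rcases hfix x (by rw [h]; rfl) with rfl | rfl <;> simp
    have := (Finset.card_le_card hsub).trans Finset.card_le_two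
    rw [Finset.card_univ, ← Nat.card_eq_fintype_card] at this
    omega
  haveI : Finite (RingAut F) := Finite.of_injective (fun (f : RingAut F) => (f : F → F))
    fun f g h => RingEquiv.ext (congrFun h)
  haveI := Fintype.ofFinite (Subgroup.zpowers σ)
  have hfin := FixedPoints.finrank_eq_card (Subgroup.zpowers σ) F
  rw [← Nat.card_eq_fintype_card, Nat.card_zpowers, orderOf_eq_prime hσ hσ1] at hfin
  have h2 : Nat.card (FixedPoints.subfield (Subgroup.zpowers σ) F) = 2 := by
    have hset : (FixedPoints.subfield (Subgroup.zpowers σ) F : Set F) = {0, 1} := by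
      ext x
      constructor
      · intro hx
        exact hfix x (hx ⟨σ, Subgroup.mem_zpowers σ⟩)
      · rintro (rfl | rfl)
        · exact zero_mem _
        · exact one_mem _
    show Nat.card (FixedPoints.subfield (Subgroup.zpowers σ) F : Set F) = 2
    rw [Nat.card_coe_set_eq, hset, Set.ncard_pair zero_ne_one]
  rw [Module.natCard_eq_pow_finrank (K := FixedPoints.subfield (Subgroup.zpowers σ) F), h2, hfin]

/-- The field attached to a transitive cyclic group of automorphisms. -/
theorem card_eq_two_pow_of_semilinear {A : Type*} [AddCommGroup A] [Finite A] (hA : 2 < Nat.card A)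
    (X U : (AddMonoid.End A)ˣ) (v₀ : A) (hv₀ : v₀ ≠ 0)
    (htr : ∀ v : A, v ≠ 0 → ∃ j : ℤ, ((X ^ j : (AddMonoid.End A)ˣ) : AddMonoid.End A) v₀ = v)
    (hconj : U * X * U⁻¹ ∈ Subgroup.zpowers X)
    {r : ℕ} (hr : r.Prime) (hU : U ^ r = 1) (hv₀U : (U : AddMonoid.End A) v₀ = v₀)
    (hfix : ∀ v : A, (U : AddMonoid.End A) v = v → v = 0 ∨ v = v₀) : Nat.card A = 2 ^ r := by
  classical
  set S : Subring (AddMonoid.End A) := Subring.centralizer {(X : AddMonoid.End A)} with hS
  have hmemS : ∀ f : AddMonoid.End A, f ∈ S ↔ Commute (X : AddMonoid.End A) f := fun f => by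
    rw [hS, Subring.mem_centralizer_iff]
    simp [Commute, SemiconjBy]
  have hcommj : ∀ (f : AddMonoid.End A), f ∈ S → ∀ j : ℤ,
      Commute ((X ^ j : (AddMonoid.End A)ˣ) : AddMonoid.End A) f :=
    fun f hf j => ((hmemS f).1 hf).units_zpow_left j
  have hpowS : ∀ j : ℤ, ((X ^ j : (AddMonoid.End A)ˣ) : AddMonoid.End A) ∈ S := fun j =>
    (hmemS _).2 ((Commute.refl (X : AddMonoid.End A)).units_zpow_right j)
  have hev : Function.Injective fun f : S => (f : AddMonoid.End A) v₀ := by
    intro f g h
    refine Subtype.ext (DFunLike.ext _ _ fun v => ?_)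
    by_cases hv : v = 0
    · subst hv; simp
    · obtain ⟨j, rfl⟩ := htr v hv
      have h1 := DFunLike.congr_fun ((hcommj f f.2 j).eq) v₀
      have h2 := DFunLike.congr_fun ((hcommj g g.2 j).eq) v₀
      set e := ((X ^ j : (AddMonoid.End A)ˣ) : AddMonoid.End A)
      have h1' : e ((f : AddMonoid.End A) v₀) = (f : AddMonoid.End A) (e v₀) := h1
      have h2' : e ((g : AddMonoid.End A) v₀) = (g : AddMonoid.End A) (e v₀) := h2
      exact h1'.symm.trans ((congrArg e h).trans h2')
  have hsurj : Function.Surjective fun f : S => (f : AddMonoid.End A) v₀ := by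
    intro v
    by_cases hv : v = 0
    · exact ⟨0, hv ▸ rfl⟩
    · obtain ⟨j, hj⟩ := htr v hv
      exact ⟨⟨_, hpowS j⟩, hj⟩
  have hpow : ∀ f : S, f ≠ 0 → ∃ j : ℤ,
      (f : AddMonoid.End A) = ((X ^ j : (AddMonoid.End A)ˣ) : AddMonoid.End A) := by
    intro f hf
    obtain ⟨j, hj⟩ := htr ((f : AddMonoid.End A) v₀) fun h => hf (hev h)
    exact ⟨j, congrArg Subtype.val (hev (show (fun f : S => (f : AddMonoid.End A) v₀) f =
      (fun f : S => (f : AddMonoid.End A) v₀) ⟨_, hpowS j⟩ from hj.symm))⟩
  have hfield : IsField S := by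
    refine ⟨⟨0, 1, fun h => hv₀ ?_⟩, fun f g => ?_, fun {f} hf => ?_⟩
    · exact (congrArg (fun f : S => (f : AddMonoid.End A) v₀) h).symm
    · by_cases hf : f = 0
      · rw [hf, zero_mul, mul_zero]
      · obtain ⟨i, hi⟩ := hpow f hf
        refine Subtype.ext ?_
        rw [Subring.coe_mul, Subring.coe_mul, hi]
        exact (hcommj g g.2 i).eq
    · obtain ⟨i, hi⟩ := hpow f hf
      refine ⟨⟨_, hpowS (-i)⟩, Subtype.ext ?_⟩
      rw [Subring.coe_mul, hi, ← Units.val_mul, ← zpow_add, add_neg_cancel, zpow_zero]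
      rfl
  haveI : Finite S := Finite.of_injective _ hev
  have hcardS : Nat.card S = Nat.card A := Nat.card_congr (Equiv.ofBijective _ ⟨hev, hsurj⟩)
  obtain ⟨t, ht⟩ := Subgroup.mem_zpowers_iff.1 hconj
  -- conjugation by `U` preserves `S`
  have hconjS : ∀ f : AddMonoid.End A, f ∈ S →
      (U : AddMonoid.End A) * f * ((U⁻¹ : (AddMonoid.End A)ˣ) : AddMonoid.End A) ∈ S := by
    intro f hf
    by_cases h0 : (⟨f, hf⟩ : S) = 0
    · rw [show f = 0 from congrArg Subtype.val h0, mul_zero, zero_mul]; exact zero_mem _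
    · obtain ⟨i, hi⟩ := hpow _ h0
      rw [show f = _ from hi, ← Units.val_mul, ← Units.val_mul, ← conj_zpow, ← ht, ← zpow_mul]
      exact hpowS _
  let σ₀ : S →+* S :=
    { toFun := fun f => ⟨_, hconjS f f.2⟩
      map_one' := Subtype.ext (by simp)
      map_mul' := fun f g => Subtype.ext (by
        simp only [Subring.coe_mul]
        simp [mul_assoc])
      map_zero' := Subtype.ext (by simp)
      map_add' := fun f g => Subtype.ext (by simp [mul_add, add_mul]) }
  letI : Field S := hfield.toField
  have hσbij : Function.Bijective σ₀ := by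
    rw [Finite.injective_iff_bijective.symm]
    intro f g h
    have h1 := congrArg Subtype.val h
    change (U : AddMonoid.End A) * f * _ = (U : AddMonoid.End A) * g * _ at h1
    rw [Units.mul_left_inj, Units.mul_right_inj] at h1
    exact Subtype.ext h1
  let σ : RingAut S := RingEquiv.ofBijective σ₀ hσbij
  have hσn : ∀ (n : ℕ) (f : S), ((σ ^ n) f : S).1 = ((U ^ n : (AddMonoid.End A)ˣ) : AddMonoid.End A) *
      f * (((U ^ n)⁻¹ : (AddMonoid.End A)ˣ) : AddMonoid.End A) := by
    intro n
    induction n with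
    | zero => intro f; simp
    | succ n ih =>
      intro f
      rw [pow_succ' σ]
      change (U : AddMonoid.End A) * ((σ ^ n) f : S).1 * _ = _
      rw [ih, pow_succ' U, mul_inv_rev, Units.val_mul, Units.val_mul]
      simp only [mul_assoc]
  rw [← hcardS]
  refine card_eq_two_pow_of_aut σ hr ?_ (hcardS ▸ hA) fun f hf => ?_
  · refine RingEquiv.ext fun f => Subtype.ext ?_
    rw [hσn, hU]
    simp
  · have h1 : ((U : AddMonoid.End A) * f * ((U⁻¹ : (AddMonoid.End A)ˣ) : AddMonoid.End A)) v₀ =
        (f : AddMonoid.End A) v₀ := congrArg (fun g : S => (g : AddMonoid.End A) v₀) hf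
    have h2 : ((U⁻¹ : (AddMonoid.End A)ˣ) : AddMonoid.End A) v₀ = v₀ := by
      conv_lhs => rw [← hv₀U]
      exact DFunLike.congr_fun U.inv_mul v₀
    have h3 : (U : AddMonoid.End A) ((f : AddMonoid.End A)
        (((U⁻¹ : (AddMonoid.End A)ˣ) : AddMonoid.End A) v₀)) = (f : AddMonoid.End A) v₀ := h1
    rw [h2] at h3
    rcases hfix _ h3 with h | h
    · exact Or.inl (hev h)
    · exact Or.inr (hev h)

end CfsgLib.PermGroups
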