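import Cfsg.Agent.Lib.PermGroups.RegularTypes
import Cfsg.Agent.Lib.ClassicalLinear.Generation

/-!
Linear groups regular on non-zero vectors: a quaternion or `SL(2,5)` normal subgroup forces
dimension two over its commutant.
-/

set_option autoImplicit false
set_option linter.style.haveILetI false
set_option linter.unusedSectionVars false

open scoped MatrixGroups

namespace CfsgLib.PermGroups

/-- Two elements of order three generating `SL(2,5)`. -/
def slGenY : SL(2, ZMod 5) := ⟨!![0, 4; 1, 4], by decide⟩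

/-- Two elements of order three generating `SL(2,5)`. -/
def slGenW : SL(2, ZMod 5) := ⟨!![0, 1; 4, 4], by decide⟩

theorem slGen_facts : slGenY ^ 3 = 1 ∧ slGenW ^ 3 = 1 ∧ slGenY ≠ 1 ∧ slGenW ≠ 1 ∧
    slGenY * slGenW ≠ slGenW * slGenY ∧
    (∀ c : ZMod 5, (((slGenW * slGenW * slGenY * slGenW * slGenW * slGenY) ^ c.val :
      SL(2, ZMod 5)) : Matrix (Fin 2) (Fin 2) (ZMod 5)) = !![1, c; 0, 1]) ∧
    (∀ c : ZMod 5, (((slGenW * slGenY * slGenY * slGenW * slGenY * slGenY) ^ c.val :
      SL(2, ZMod 5)) : Matrix (Fin 2) (Fin 2) (ZMod 5)) = !![1, 0; c, 1]) := by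
  decide +kernel

theorem closure_slGen : Subgroup.closure ({slGenY, slGenW} : Set SL(2, ZMod 5)) = ⊤ := by
  haveI : Fact (Nat.Prime 5) := ⟨Nat.prime_five⟩
  obtain ⟨-, -, -, -, -, hT, hL⟩ := slGen_facts
  have hy : slGenY ∈ Subgroup.closure ({slGenY, slGenW} : Set SL(2, ZMod 5)) :=
    Subgroup.subset_closure (Or.inl rfl)
  have hw : slGenW ∈ Subgroup.closure ({slGenY, slGenW} : Set SL(2, ZMod 5)) :=
    Subgroup.subset_closure (Or.inr rfl)
  refine CfsgLib.ClassicalLinear.eq_top_of_transvection_mem fun i j hij c => ?_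
  have h1 : i = 0 ∧ j = 1 ∨ i = 1 ∧ j = 0 := by omega
  rcases h1 with ⟨rfl, rfl⟩ | ⟨rfl, rfl⟩
  · convert pow_mem (mul_mem (mul_mem (mul_mem (mul_mem (mul_mem hw hw) hy) hw) hw) hy) c.val using 1
    apply Subtype.ext
    rw [hT c]
    ext a b
    fin_cases a <;> fin_cases b <;> simp [Matrix.SpecialLinearGroup.transvection, Matrix.transvection, Matrix.single]
  · convert pow_mem (mul_mem (mul_mem (mul_mem (mul_mem (mul_mem hw hy) hy) hw) hy) hy) c.val using 1
    apply Subtype.ext
    rw [hL c]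
    ext a b
    fin_cases a <;> fin_cases b <;> simp [Matrix.SpecialLinearGroup.transvection, Matrix.transvection, Matrix.single]

namespace Regular

variable {p : ℕ} {V : Type*} [AddCommGroup V] [Module (ZMod p) V] [Fact p.Prime] [Finite V]
  {H : Subgroup (V ≃ₗ[ZMod p] V)}
  (hreg : ∀ v w : V, v ≠ 0 → w ≠ 0 → ∃! h : H, (h : V ≃ₗ[ZMod p] V) v = w)

include hreg

/-- Dimension two over the commutant. -/
theorem natCard_eq_sq [Nontrivial V] {N : Subgroup H} (hN : N.Normal)
    (hna : ¬ IsMulCommutative N) {y w : H} (hy : y ∈ N) (hw : w ∈ N)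
    (hgen : N ≤ Subgroup.closure {y, w})
    (hYY : ∃ a ∈ commutant N, ∃ b ∈ commutant N,
      endHom H y * endHom H y = a + b * endHom H y)
    (hWW : ∃ a ∈ commutant N, ∃ b ∈ commutant N,
      endHom H w * endHom H w = a + b * endHom H w)
    (hWY : ∃ a ∈ commutant N, ∃ b ∈ commutant N, ∃ c ∈ commutant N, ∃ d ∈ commutant N,
      endHom H w * endHom H y =
        a + b * endHom H y + c * endHom H w + d * (endHom H y * endHom H w)) :
    Nat.card V = Nat.card (commutant N) ^ 2 := by
  classical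
  haveI := hN
  haveI : Finite (Module.End (ZMod p) V) :=
    Finite.of_injective (fun f : Module.End (ZMod p) V => (f : V → V)) DFunLike.coe_injective
  have hirr := irred_of_nonabelian hreg hN hna
  have hF := isInj_commutant hirr
  set F := commutant N with hFdef
  set Y := endHom H y with hYdef
  set W := endHom H w with hWdef
  obtain ⟨a1, ha1, b1, hb1, eYY⟩ := hYY
  obtain ⟨a2, ha2, b2, hb2, eWW⟩ := hWW
  obtain ⟨a0, ha0, b0, hb0, c0, hc0, d0, hd0, eWY⟩ := hWY
  have hcY : ∀ f ∈ F, Y * f = f * Y := fun f hf =>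
    (Subalgebra.mem_centralizer_iff (R := ZMod p)).1 hf _ ⟨y, hy, rfl⟩
  have hcW : ∀ f ∈ F, W * f = f * W := fun f hf =>
    (Subalgebra.mem_centralizer_iff (R := ZMod p)).1 hf _ ⟨w, hw, rfl⟩
  have hcomm : ∀ f ∈ F, ∀ g ∈ F, f * g = g * f := fun f hf g hg => hF.comm hf hg
  let Φ : (F × F × F × F) →+ Module.End (ZMod p) V :=
    AddMonoidHom.mk' (fun x => (x.1 : Module.End (ZMod p) V) + x.2.1 * Y + x.2.2.1 * W +
      x.2.2.2 * (Y * W)) (fun x x' => by
        simp only [Prod.fst_add, Prod.snd_add, Subalgebra.coe_add, add_mul]; abel)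
  have hΦ : ∀ x, Φ x = (x.1 : Module.End (ZMod p) V) + x.2.1 * Y + x.2.2.1 * W +
      x.2.2.2 * (Y * W) := fun _ => rfl
  have hlY : ∀ x, Y * Φ x ∈ Φ.range := by
    rintro ⟨⟨a, ha⟩, ⟨b, hb⟩, ⟨c, hc⟩, ⟨d, hd⟩⟩
    refine ⟨(⟨b * a1, F.mul_mem hb ha1⟩, ⟨a + b * b1, F.add_mem ha (F.mul_mem hb hb1)⟩,
      ⟨d * a1, F.mul_mem hd ha1⟩, ⟨c + d * b1, F.add_mem hc (F.mul_mem hd hb1)⟩), ?_⟩
    have e1 : Y * (a + b * Y + c * W + d * (Y * W)) =
        a * Y + b * (Y * Y) + c * (Y * W) + d * ((Y * Y) * W) := by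
      simp only [mul_add, ← mul_assoc, hcY a ha, hcY b hb, hcY c hc, hcY d hd]
    simp only [hΦ]
    rw [e1, eYY]
    noncomm_ring
  have hlW : ∀ x, W * Φ x ∈ Φ.range := by
    rintro ⟨⟨a, ha⟩, ⟨b, hb⟩, ⟨c, hc⟩, ⟨d, hd⟩⟩
    refine ⟨(⟨b * a0 + c * a2 + d * (c0 * a2), F.add_mem (F.add_mem (F.mul_mem hb ha0)
        (F.mul_mem hc ha2)) (F.mul_mem hd (F.mul_mem hc0 ha2))⟩,
      ⟨b * b0 + d * (d0 * a2), F.add_mem (F.mul_mem hb hb0) (F.mul_mem hd (F.mul_mem hd0 ha2))⟩,
      ⟨a + b * c0 + c * b2 + d * (a0 + c0 * b2), F.add_mem (F.add_mem (F.add_mem ha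
        (F.mul_mem hb hc0)) (F.mul_mem hc hb2)) (F.mul_mem hd (F.add_mem ha0 (F.mul_mem hc0 hb2)))⟩,
      ⟨b * d0 + d * (b0 + d0 * b2), F.add_mem (F.mul_mem hb hd0)
        (F.mul_mem hd (F.add_mem hb0 (F.mul_mem hd0 hb2)))⟩), ?_⟩
    have e1 : W * (a + b * Y + c * W + d * (Y * W)) =
        a * W + b * (W * Y) + c * (W * W) + d * ((W * Y) * W) := by
      simp only [mul_add, ← mul_assoc, hcW a ha, hcW b hb, hcW c hc, hcW d hd]
    have e2 : Y * (W * W) = a2 * Y + b2 * (Y * W) := by
      rw [eWW, mul_add, ← mul_assoc, hcY a2 ha2, hcY b2 hb2, mul_assoc]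
    have e3 : (W * Y) * W = a0 * W + b0 * (Y * W) + c0 * (W * W) + d0 * (Y * (W * W)) := by
      rw [eWY]; noncomm_ring
    simp only [hΦ]
    rw [e1, e3, e2, eWY, eWW]
    noncomm_ring
  have h1Φ : (1 : Module.End (ZMod p) V) ∈ Φ.range := ⟨(1, 0, 0, 0), by simp [hΦ]⟩
  have hclN : ∀ g ∈ Subgroup.closure ({y, w} : Set H), ∀ r ∈ Φ.range,
      endHom H g * r ∈ Φ.range := by
    intro g hg
    induction hg using Subgroup.closure_induction with
    | mem u hu =>
      rintro _ ⟨x, rfl⟩
      rcases hu with rfl | rfl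
      exacts [hlY x, hlW x]
    | one => intro r hr; rwa [map_one, one_mul]
    | mul u u' _ _ h h' => intro r hr; rw [map_mul, mul_assoc]; exact h _ (h' r hr)
    | inv u _ h =>
      intro r hr
      rw [show u⁻¹ = u ^ (orderOf u - 1) by
        rw [inv_eq_iff_mul_eq_one, ← pow_succ', Nat.sub_add_cancel (orderOf_pos u),
          pow_orderOf_eq_one]]
      generalize orderOf u - 1 = n
      induction n with
      | zero => rwa [pow_zero, map_one, one_mul]
      | succ n ih => rw [pow_succ', map_mul, mul_assoc]; exact h _ ih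
  have halg : ∀ r ∈ alg N, ∀ s ∈ Φ.range, r * s ∈ Φ.range := by
    intro r hr
    induction hr using Algebra.adjoin_induction with
    | mem u hu =>
      obtain ⟨g, hg, rfl⟩ := hu
      exact hclN g (hgen hg)
    | algebraMap c =>
      rintro _ ⟨x, rfl⟩
      refine ⟨c • x, ?_⟩
      rw [Algebra.algebraMap_eq_smul_one, smul_mul_assoc, one_mul]
      simp [hΦ, smul_add]
    | add u u' _ _ h h' => intro s hs; rw [add_mul]; exact add_mem (h s hs) (h' s hs)
    | mul u u' _ _ h h' => intro s hs; rw [mul_assoc]; exact h _ (h' s hs)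
  have halgΦ : ∀ r ∈ alg N, r ∈ Φ.range := fun r hr => by simpa using halg r hr 1 h1Φ
  -- multiples of a single vector
  have hFv : ∀ v : V, v ≠ 0 → ∃ u : V, ∀ f ∈ F, f v ≠ u := by
    intro v hv
    by_contra h
    push Not at h
    apply hna
    have hscal : ∀ g : H, g ∈ N → endHom H g ∈ F := by
      intro g hg
      obtain ⟨c, hc, hcv⟩ := h (endHom H g v)
      suffices endHom H g = c by rwa [this]
      ext u
      obtain ⟨f, hf, rfl⟩ := h u
      calc endHom H g (f v) = (endHom H g * f) v := rfl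
        _ = (f * endHom H g) v := by
            rw [(Subalgebra.mem_centralizer_iff (R := ZMod p)).1 hf _ ⟨g, hg, rfl⟩]
        _ = (f * c) v := by show f (endHom H g v) = f (c v); rw [hcv]
        _ = c (f v) := by rw [hcomm f hf c hc]; rfl
    refine IsMulCommutative.of_comm fun a b => Subtype.ext (endHom_injective H ?_)
    rw [Subgroup.coe_mul, Subgroup.coe_mul, map_mul, map_mul]
    exact hcomm _ (hscal a a.2) _ (hscal b b.2)
  have hFinj : ∀ v : V, v ≠ 0 → ∀ f ∈ F, f v = 0 → f = 0 := fun v hv f hf h => hF f hf v hv h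
  -- a vector killed by a non-zero element
  obtain ⟨x0, v, hv, hx0, hx0v⟩ : ∃ (x0 : F × F × F × F) (v : V), v ≠ 0 ∧ Φ x0 ≠ 0 ∧
      Φ x0 v = 0 := by
    by_contra h
    push Not at h
    apply hna
    have hS : IsInj (alg N) := fun r hr v hv hrv => by
      obtain ⟨x, rfl⟩ := halgΦ r hr
      by_contra hne
      exact h x v hv hne hrv
    refine IsMulCommutative.of_comm fun a b => Subtype.ext (endHom_injective H ?_)
    rw [Subgroup.coe_mul, Subgroup.coe_mul, map_mul, map_mul]
    exact hS.comm (mem_alg a.2) (mem_alg b.2)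
  set r := Φ x0 with hr
  obtain ⟨Z, hZ, hZr⟩ : ∃ Z : Module.End (ZMod p) V, (∀ x, Z * Φ x ∈ Φ.range) ∧
      ∀ f ∈ F, Z * r ≠ f * r := by
    by_contra h
    push Not at h
    obtain ⟨cy, hcy, ey⟩ := h Y hlY
    obtain ⟨cw, hcw, ew⟩ := h W hlW
    apply hna
    have hrF : ∀ f ∈ F, f * r = r * f := by
      intro f hf
      rw [hr, hΦ]
      have hY' : Commute f Y := (hcY f hf).symm
      have hW' : Commute f W := (hcW f hf).symm
      exact (((Commute.add_right (hcomm f hf _ (x0.1).2) (Commute.mul_right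
        (hcomm f hf _ (x0.2.1).2) hY')).add_right (Commute.mul_right
        (hcomm f hf _ (x0.2.2.1).2) hW')).add_right (Commute.mul_right
        (hcomm f hf _ (x0.2.2.2).2) (hY'.mul_right hW'))).eq
    have hinv : InvUnder N (LinearMap.range r) := by
      intro g hg u hu
      have key : ∀ g ∈ Subgroup.closure ({y, w} : Set H), ∀ u ∈ LinearMap.range r,
          endHom H g u ∈ LinearMap.range r := by
        intro g hg
        induction hg using Subgroup.closure_induction with
        | mem u hu =>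
          rintro _ ⟨s, rfl⟩
          rcases hu with rfl | rfl
          · refine ⟨cy s, ?_⟩
            show r (cy s) = (Y * r) s
            rw [ey, hrF cy hcy]; rfl
          · refine ⟨cw s, ?_⟩
            show r (cw s) = (W * r) s
            rw [ew, hrF cw hcw]; rfl
        | one => intro u hu; rwa [map_one]
        | mul a b _ _ ha hb => intro u hu; rw [map_mul]; exact ha _ (hb u hu)
        | inv a _ ha =>
          intro u hu
          rw [show a⁻¹ = a ^ (orderOf a - 1) by
            rw [inv_eq_iff_mul_eq_one, ← pow_succ', Nat.sub_add_cancel (orderOf_pos a),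
              pow_orderOf_eq_one]]
          generalize orderOf a - 1 = n
          induction n with
          | zero => rwa [pow_zero, map_one]
          | succ n ih => rw [pow_succ', map_mul]; exact ha _ ih
      exact key g (hgen hg) u hu
    have htop : LinearMap.range r = ⊤ :=
      (hirr _ hinv).resolve_left fun hb => hx0 (LinearMap.range_eq_bot.1 hb)
    have hscal : ∀ (c Z : Module.End (ZMod p) V), Z * r = c * r → Z = c := by
      intro c Z e
      ext u
      obtain ⟨s, rfl⟩ : u ∈ LinearMap.range r := htop ▸ Submodule.mem_top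
      exact LinearMap.congr_fun e s
    have eY : Y = cy := hscal cy Y ey
    have hyw : y * w = w * y := endHom_injective H (by
      rw [map_mul, map_mul, ← hYdef, ← hWdef, eY, hcW cy hcy])
    refine IsMulCommutative.of_comm fun a b => Subtype.ext ?_
    rw [Subgroup.coe_mul, Subgroup.coe_mul]
    have hcl : IsMulCommutative (Subgroup.closure ({y, w} : Set H)) :=
      Subgroup.isMulCommutative_closure (by
        rintro u (rfl | rfl) u' (rfl | rfl) <;> first | rfl | exact hyw | exact hyw.symm)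
    exact congrArg Subtype.val (hcl.is_comm.comm
      (⟨a, hgen a.2⟩ : Subgroup.closure ({y, w} : Set H)) ⟨b, hgen b.2⟩)
  -- the evaluation
  let ψ : (F × F × F × F) →+ V := AddMonoidHom.mk' (fun x => Φ x v)
    (fun x x' => by rw [map_add]; rfl)
  have hψr : ψ.range = ⊤ := by
    let U : Submodule (ZMod p) V := AddSubgroup.toZModSubmodule p ψ.range
    have hvU : v ∈ U := ⟨(1, 0, 0, 0), by show Φ (1, 0, 0, 0) v = v; simp [hΦ]⟩
    have hU : InvUnder N U := by
      rintro g hg _ ⟨x, rfl⟩
      obtain ⟨x', hx'⟩ := hclN g (hgen hg) _ ⟨x, rfl⟩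
      exact ⟨x', LinearMap.congr_fun hx' v⟩
    rcases hirr U hU with h | h
    · exact absurd ((Submodule.mem_bot (ZMod p)).1 (h ▸ hvU)) hv
    · rw [eq_top_iff]
      intro u _
      exact (h ▸ Submodule.mem_top : u ∈ U)
  have hq4 : Nat.card V * Nat.card ψ.ker = Nat.card F ^ 4 := by
    have h1 := AddSubgroup.card_mul_index ψ.ker
    rw [AddSubgroup.index_ker, hψr, AddSubgroup.card_top, Nat.card_prod, Nat.card_prod,
      Nat.card_prod] at h1
    rw [mul_comm, h1]; ring
  obtain ⟨x1, hx1⟩ := hZ x0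
  have hx1v : Φ x1 v = 0 := by
    rw [hx1]
    show Z (r v) = 0
    rw [hx0v, map_zero]
  have hlow : Nat.card F ^ 2 ≤ Nat.card ψ.ker := by
    let m : F → (F × F × F × F) → (F × F × F × F) := fun a x =>
      (a * x.1, a * x.2.1, a * x.2.2.1, a * x.2.2.2)
    have hm : ∀ a x, Φ (m a x) = (a : Module.End (ZMod p) V) * Φ x := fun a x => by
      simp only [hΦ, m, Subalgebra.coe_mul, mul_add, mul_assoc]
    rw [pow_two, ← Nat.card_prod]
    refine Nat.card_le_card_of_injective
      (fun ab : F × F => (⟨m ab.1 x0 + m ab.2 x1, ?_⟩ : ψ.ker)) ?_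
    · show Φ (m ab.1 x0 + m ab.2 x1) v = 0
      rw [map_add, hm, hm, LinearMap.add_apply, Module.End.mul_apply, Module.End.mul_apply,
        ← hr, hx0v, hx1v, map_zero, map_zero, add_zero]
    · rintro ⟨a, b⟩ ⟨a', b'⟩ hab
      have h1 := congrArg (fun x : ψ.ker => Φ x.1) hab
      simp only [map_add, hm, hx1, ← hr] at h1
      have h2 : ((a - a' : F) : Module.End (ZMod p) V) * r + ((b - b' : F) : _) * (Z * r) = 0 := by
        simp only [Subalgebra.coe_sub, sub_mul]
        rw [← sub_eq_zero.2 h1]; abel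
      by_cases hb : (b - b' : F) = 0
      · rw [hb, Subalgebra.coe_zero, zero_mul, add_zero] at h2
        obtain ⟨u, hu⟩ : ∃ u, r u ≠ 0 := by
          by_contra hall; push Not at hall; exact hx0 (LinearMap.ext hall)
        have ha0 := hFinj (r u) hu _ (a - a' : F).2 (LinearMap.congr_fun h2 u)
        exact Prod.ext (sub_eq_zero.1 (Subtype.ext ha0)) (sub_eq_zero.1 hb)
      · exfalso
        obtain ⟨c, hc⟩ := hF.isField.mul_inv_cancel hb
        refine hZr _ (F.neg_mem (F.mul_mem c.2 (a - a' : F).2)) ?_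
        have hc' : (c : Module.End (ZMod p) V) * ((b - b' : F) : Module.End (ZMod p) V) = 1 := by
          rw [hcomm _ c.2 _ (b - b' : F).2]
          exact congrArg Subtype.val hc
        calc Z * r = (c : Module.End (ZMod p) V) * (((b - b' : F) : _) * (Z * r)) := by
              rw [← mul_assoc, hc', one_mul]
          _ = (c : Module.End (ZMod p) V) * (-(((a - a' : F) : Module.End (ZMod p) V) * r)) := by
              rw [eq_neg_of_add_eq_zero_right h2]
          _ = _ := by rw [mul_neg, neg_mul, mul_assoc]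
  obtain ⟨u, hu⟩ := hFv v hv
  have hup : Nat.card F ^ 2 ≤ Nat.card V := by
    rw [pow_two, ← Nat.card_prod]
    refine Nat.card_le_card_of_injective
      (fun ab : F × F => (ab.1 : Module.End (ZMod p) V) v + (ab.2 : Module.End (ZMod p) V) u) ?_
    rintro ⟨a, b⟩ ⟨a', b'⟩ hab
    have h2 : ((a - a' : F) : Module.End (ZMod p) V) v +
        ((b - b' : F) : Module.End (ZMod p) V) u = 0 := by
      simp only [Subalgebra.coe_sub, LinearMap.sub_apply] at hab ⊢
      linear_combination (norm := abel) hab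
    by_cases hb : (b - b' : F) = 0
    · rw [hb, Subalgebra.coe_zero, LinearMap.zero_apply, add_zero] at h2
      exact Prod.ext (sub_eq_zero.1 (Subtype.ext (hFinj v hv _ (a - a' : F).2 h2)))
        (sub_eq_zero.1 hb)
    · exfalso
      obtain ⟨c, hc⟩ := hF.isField.mul_inv_cancel hb
      refine hu _ (F.neg_mem (F.mul_mem c.2 (a - a' : F).2)) ?_
      have hc' : (c : Module.End (ZMod p) V) * ((b - b' : F) : Module.End (ZMod p) V) = 1 := by
        rw [hcomm _ c.2 _ (b - b' : F).2]
        exact congrArg Subtype.val hc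
      calc (-((c : Module.End (ZMod p) V) * ((a - a' : F) : Module.End (ZMod p) V))) v
          = (c : Module.End (ZMod p) V) (-(((a - a' : F) : Module.End (ZMod p) V) v)) := by
            rw [LinearMap.neg_apply, map_neg]; rfl
        _ = (c : Module.End (ZMod p) V) (((b - b' : F) : Module.End (ZMod p) V) u) := by
            rw [eq_neg_of_add_eq_zero_right h2]
        _ = u := LinearMap.congr_fun hc' u
  have hle : Nat.card V * Nat.card F ^ 2 ≤ Nat.card F ^ 2 * Nat.card F ^ 2 := by
    calc Nat.card V * Nat.card F ^ 2 ≤ Nat.card V * Nat.card ψ.ker := Nat.mul_le_mul_left _ hlow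
      _ = _ := by rw [hq4]; ring
  exact le_antisymm (Nat.le_of_mul_le_mul_right hle (pow_pos Nat.card_pos 2)) hup

end Regular

end CfsgLib.PermGroups
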