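import Cfsg.Agent.Lib.PermGroups.RegularDim

/-!
The exceptional linear groups regular on the non-zero vectors.
-/

set_option autoImplicit false
set_option linter.style.haveILetI false
set_option linter.unusedSectionVars false

open scoped MatrixGroups commutatorElement

namespace CfsgLib.PermGroups

/-- The hom to the automorphisms of the quaternion group recorded on the generators. -/
theorem card_q8_pairs : (Finset.univ.filter fun uv : QuaternionGroup 2 × QuaternionGroup 2 =>
    (∀ x y, q8map uv.1 uv.2 (x * y) = q8map uv.1 uv.2 x * q8map uv.1 uv.2 y) ∧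
      (∀ x, q8map uv.1 uv.2 x = 1 → x = 1)).card = 24 := by
  decide +kernel

theorem mulAut_q8_eq (φ : MulAut (QuaternionGroup 2)) (x : QuaternionGroup 2) :
    φ x = q8map (φ (.a 1)) (φ (.xa 0)) x := by
  cases x with
  | a i =>
    show _ = φ (.a 1) ^ i.val
    rw [← map_pow, QuaternionGroup.a_one_pow, ZMod.natCast_zmod_val]
  | xa i =>
    show _ = φ (.xa 0) * φ (.a 1) ^ i.val
    rw [← map_pow, ← map_mul, QuaternionGroup.a_one_pow, ZMod.natCast_zmod_val,
      QuaternionGroup.xa_mul_a, zero_add]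

theorem card_mulAut_q8 : Nat.card (MulAut (QuaternionGroup 2)) = 24 := by
  classical
  rw [← card_q8_pairs, ← Nat.card_eq_finsetCard]
  refine Nat.card_eq_of_bijective (fun φ => ⟨(φ (.a 1), φ (.xa 0)), ?_⟩) ⟨?_, ?_⟩
  · simp only [Finset.mem_filter, Finset.mem_univ, true_and]
    exact ⟨fun x y => by rw [← mulAut_q8_eq, ← mulAut_q8_eq, ← mulAut_q8_eq, map_mul],
      fun x hx => φ.injective (by rw [mulAut_q8_eq φ x, hx, map_one])⟩
  · intro φ φ' h
    have h' := congrArg Subtype.val h
    simp only [Prod.mk.injEq] at h'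
    exact MulEquiv.ext fun x => by rw [mulAut_q8_eq φ x, mulAut_q8_eq φ' x, h'.1, h'.2]
  · rintro ⟨⟨u, v⟩, huv⟩
    simp only [Finset.mem_filter, Finset.mem_univ, true_and] at huv
    let f : QuaternionGroup 2 →* QuaternionGroup 2 := MonoidHom.mk' (q8map u v) huv.1
    have hf : Function.Bijective f := Finite.injective_iff_bijective.1
      ((injective_iff_map_eq_one f).2 huv.2)
    refine ⟨MulEquiv.ofBijective f hf, Subtype.ext (Prod.ext ?_ ?_)⟩
    · show u ^ (1 : ZMod (2 * 2)).val = u
      rw [show (1 : ZMod (2 * 2)).val = 1 from rfl, pow_one]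
    · show v * u ^ (0 : ZMod (2 * 2)).val = v
      rw [show (0 : ZMod (2 * 2)).val = 0 from rfl, pow_zero, mul_one]

theorem q8_pair_facts : ∀ x : QuaternionGroup 2, x * x ≠ 1 →
    ({x, x ^ 3} : Finset (QuaternionGroup 2)) ∈
      ({{.a 1, (.a 1) ^ 3}, {.xa 0, (.xa 0) ^ 3}, {.xa 1, (.xa 1) ^ 3}} :
        Finset (Finset (QuaternionGroup 2))) := by
  decide +kernel

/-- A perfect group acts trivially on the quaternion group. -/
theorem hom_mulAut_q8_eq_one {P : Type*} [Group P] (hperf : commutator P = ⊤)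
    (f : P →* MulAut (QuaternionGroup 2)) : f = 1 := by
  classical
  let F : P →* Equiv.Perm (Finset (QuaternionGroup 2)) :=
    MonoidHom.mk' (fun g => (f g).toEquiv.finsetCongr) (fun a b => Equiv.ext fun s => by
      show s.map (f (a * b)).toEquiv.toEmbedding =
        (s.map (f b).toEquiv.toEmbedding).map (f a).toEquiv.toEmbedding
      rw [Finset.map_map, map_mul]
      rfl)
  let S : Finset (Finset (QuaternionGroup 2)) :=
    {{.a 1, (.a 1) ^ 3}, {.xa 0, (.xa 0) ^ 3}, {.xa 1, (.xa 1) ^ 3}}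
  have hF : ∀ g x, F g {x, x ^ 3} = {f g x, (f g x) ^ 3} := by
    intro g x
    show ({x, x ^ 3} : Finset (QuaternionGroup 2)).map (f g).toEquiv.toEmbedding = _
    simp [Finset.map_insert, map_pow]
  have hne : ∀ x : QuaternionGroup 2, x = .a 1 ∨ x = .xa 0 ∨ x = .xa 1 → x * x ≠ 1 := by
    rintro x (rfl | rfl | rfl) <;> decide
  have hinv : ∀ g, ∀ s ∈ S, F g s ∈ S := by
    intro g s hs
    simp only [S, Finset.mem_insert, Finset.mem_singleton] at hs
    rcases hs with rfl | rfl | rfl <;> rw [hF] <;> refine q8_pair_facts _ fun h => ?_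
    · exact hne _ (Or.inl rfl) ((f g).injective (by rw [map_mul, h, map_one]))
    · exact hne _ (Or.inr (Or.inl rfl)) ((f g).injective (by rw [map_mul, h, map_one]))
    · exact hne _ (Or.inr (Or.inr rfl)) ((f g).injective (by rw [map_mul, h, map_one]))
  have hS := apply_eq_of_small_invariant hperf F S (Finset.card_le_three.trans (by norm_num)) hinv
  have hfix : ∀ x : QuaternionGroup 2, ({x, x ^ 3} : Finset _) ∈ S → x ^ 9 = x →
      ∀ g, f g x = x := by
    intro x hx hx9 g
    let K : P →* Equiv.Perm (QuaternionGroup 2) :=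
      (MulAction.toPermHom (MulAut (QuaternionGroup 2)) _).comp f
    refine apply_eq_of_small_invariant hperf K {x, x ^ 3} (Finset.card_le_two.trans (by norm_num))
      ?_ g x (Finset.mem_insert_self _ _)
    intro h u hu
    have hmem : K h u ∈ ({x, x ^ 3} : Finset _) := by
      rw [← hS h _ hx, hF]
      simp only [Finset.mem_insert, Finset.mem_singleton] at hu ⊢
      rcases hu with rfl | rfl
      · exact Or.inl rfl
      · exact Or.inr (map_pow (f h) x 3)
    exact hmem
  ext g x : 2
  rw [MonoidHom.one_apply, MulAut.one_apply, mulAut_q8_eq,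
    hfix (.a 1) (by simp [S]) (by decide) g, hfix (.xa 0) (by simp [S]) (by decide) g]
  exact (mulAut_q8_eq 1 x).symm

/-- An insoluble group has a non-trivial perfect subgroup. -/
theorem exists_perfect_subgroup {G : Type*} [Group G] [Finite G] (h : ¬ Group.IsSolvable G) :
    ∃ P : Subgroup G, ¬ Group.IsSolvable P ∧ commutator P = ⊤ := by
  classical
  let S := {P : Subgroup G | ¬ Group.IsSolvable P}
  obtain ⟨P, hP, hmin⟩ := (wellFounded_lt (α := Subgroup G)).has_min S
    ⟨⊤, fun hs => h (Group.isSolvable_of_surjective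
      (f := (Subgroup.topEquiv : (⊤ : Subgroup G) ≃* G).toMonoidHom) Subgroup.topEquiv.surjective)⟩
  refine ⟨P, hP, ?_⟩
  by_contra hne
  apply hP
  have hlt : (commutator P).map P.subtype < P := by
    refine lt_of_le_of_ne (Subgroup.map_subtype_le _) fun he => hne ?_
    apply Subgroup.map_injective P.subtype_injective
    rw [he, ← MonoidHom.range_eq_map, Subgroup.range_subtype]
  have hs : Group.IsSolvable ((commutator P).map P.subtype) := by
    by_contra hc
    exact hmin _ hc hlt
  haveI := hs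
  haveI : Group.IsSolvable (commutator P) := Group.isSolvable_of_isSolvable_injective
    (f := ((commutator P).equivMapOfInjective P.subtype P.subtype_injective).toMonoidHom)
    (MulEquiv.injective _)
  haveI : Group.IsSolvable (P ⧸ commutator P) := Group.isSolvable_of_comm fun a b =>
    mul_comm (show Abelianization P from a) b
  exact (Group.isSolvable_iff_subgroup_quotient (commutator P)).2 ⟨inferInstance, inferInstance⟩

namespace Regular

variable {p : ℕ} {V : Type*} [AddCommGroup V] [Module (ZMod p) V] [Fact p.Prime] [Finite V]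
  {H : Subgroup (V ≃ₗ[ZMod p] V)}
  (hreg : ∀ v w : V, v ≠ 0 → w ≠ 0 → ∃! h : H, (h : V ≃ₗ[ZMod p] V) v = w)

theorem exists_max_abelian : ∃ A : Subgroup H, A.Normal ∧ IsMulCommutative A ∧
    ∀ B : Subgroup H, B.Normal → IsMulCommutative B → A ≤ B → B = A := by
  let S := {B : Subgroup H | B.Normal ∧ IsMulCommutative B}
  obtain ⟨A, ⟨hA, hc⟩, hmax⟩ := (wellFounded_gt (α := Subgroup H)).has_min S
    ⟨⊥, inferInstance, inferInstance⟩
  exact ⟨A, hA, hc, fun B hB hBc hle =>
    (hle.eq_or_lt.resolve_right (hmax B ⟨hB, hBc⟩)).symm⟩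

include hreg

theorem exists_A_N (hI : NoIrredCyclic H) : ∃ A N : Subgroup H,
    A.Normal ∧ IsMulCommutative A ∧
    (∀ B : Subgroup H, B.Normal → IsMulCommutative B → A ≤ B → B = A) ∧
    N.Normal ∧ N ≤ Subgroup.centralizer (A : Set H) ∧ ¬ IsMulCommutative N ∧
    ∀ M : Subgroup H, M.Normal → M ≤ N → ¬ IsMulCommutative M → M = N := by
  obtain ⟨A, hA, hc, hmax⟩ := exists_max_abelian (H := H)
  haveI := hA
  let S := {M : Subgroup H | M.Normal ∧ M ≤ Subgroup.centralizer (A : Set H) ∧
    ¬ IsMulCommutative M}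
  obtain ⟨N, ⟨hN, hle, hna⟩, hmin⟩ := (wellFounded_lt (α := Subgroup H)).has_min S
    ⟨_, inferInstance, le_rfl, (centralizer_nonabelian hreg hI hA hc hmax).2⟩
  exact ⟨A, N, hA, hc, hmax, hN, hle, hna, fun M hM hMN hMna =>
    eq_of_le_of_not_lt hMN (hmin M ⟨hM, hMN.trans hle, hMna⟩)⟩

/-- The numerical data of the quaternion case. -/
theorem quaternion_data [Nontrivial V] {N : Subgroup H} (hN : N.Normal)
    (hna : ¬ IsMulCommutative N) (e : N ≃* QuaternionGroup 2) :
    Nat.card V = Nat.card (commutant N) ^ 2 := by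
  set y := e.symm (.a 1) with hy
  set w := e.symm (.xa 0) with hw
  set t := e.symm (.a 2) with ht
  have ht1 : (t : H) ≠ 1 := fun h => by
    have h' : t = 1 := Subtype.ext h
    rw [ht, map_eq_one_iff _ e.symm.injective] at h'
    exact absurd h' (by decide)
  have ht2 : (t : H) * t = 1 := by
    rw [← Subgroup.coe_mul, ht, ← map_mul,
      show (QuaternionGroup.a 2 : QuaternionGroup 2) * .a 2 = 1 by decide, map_one]
    rfl
  have hT : endHom H (t : H) = -1 := fpf_involution (endHom H) (endHom_fpf hreg) ht2 ht1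
  have hyy : (y : H) * y = t := by
    rw [← Subgroup.coe_mul, hy, ← map_mul, ht,
      show (QuaternionGroup.a 1 : QuaternionGroup 2) * .a 1 = .a 2 by decide]
  have hww : (w : H) * w = t := by
    rw [← Subgroup.coe_mul, hw, ← map_mul, ht,
      show (QuaternionGroup.xa 0 : QuaternionGroup 2) * .xa 0 = .a 2 by decide]
  have hwy : (w : H) * y = y * w * t := by
    rw [← Subgroup.coe_mul, ← Subgroup.coe_mul, ← Subgroup.coe_mul, hy, hw, ht, ← map_mul, ← map_mul,
      ← map_mul, show (QuaternionGroup.xa 0 : QuaternionGroup 2) * .a 1 = .a 1 * .xa 0 * .a 2 by decide]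
  have hgen : N ≤ Subgroup.closure {(y : H), (w : H)} := by
    intro n hn
    have hy' : (y : H) ∈ Subgroup.closure {(y : H), (w : H)} := Subgroup.subset_closure (by simp)
    have hw' : (w : H) ∈ Subgroup.closure {(y : H), (w : H)} := Subgroup.subset_closure (by simp)
    obtain ⟨x, hx⟩ : ∃ x, e.symm x = ⟨n, hn⟩ := ⟨e ⟨n, hn⟩, e.symm_apply_apply _⟩
    rw [show n = ((e.symm x : N) : H) from (congrArg Subtype.val hx).symm]
    cases x with
    | a i =>
      rw [show (QuaternionGroup.a i : QuaternionGroup 2) = .a 1 ^ i.val by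
        rw [QuaternionGroup.a_one_pow, ZMod.natCast_zmod_val], map_pow, SubgroupClass.coe_pow]
      exact pow_mem hy' _
    | xa i =>
      rw [show (QuaternionGroup.xa i : QuaternionGroup 2) = .xa 0 * .a 1 ^ i.val by
        rw [QuaternionGroup.a_one_pow, ZMod.natCast_zmod_val, QuaternionGroup.xa_mul_a, zero_add],
        map_mul, map_pow, Subgroup.coe_mul, SubgroupClass.coe_pow]
      exact mul_mem hw' (pow_mem hy' _)
  have h0 : (0 : Module.End (ZMod p) V) ∈ commutant N := Subalgebra.zero_mem _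
  have hm1 : (-1 : Module.End (ZMod p) V) ∈ commutant N :=
    Subalgebra.neg_mem _ (Subalgebra.one_mem _)
  refine natCard_eq_sq hreg hN hna y.2 w.2 hgen ⟨-1, hm1, 0, h0, ?_⟩ ⟨-1, hm1, 0, h0, ?_⟩
    ⟨0, h0, 0, h0, 0, h0, -1, hm1, ?_⟩
  · rw [← map_mul, hyy, hT]; simp
  · rw [← map_mul, hww, hT]; simp
  · rw [← map_mul, hwy, map_mul, map_mul, hT]; simp

theorem card_facts [Nontrivial V] {A N : Subgroup H}
    (hcen : Subgroup.centralizer (N : Set H) = A) (hirr : Irred N)
    (hV : Nat.card V = Nat.card (commutant N) ^ 2) {Q : Type*} [Group Q] [Finite Q] (ψ : H →* Q)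
    (hψ : ψ.ker = Subgroup.centralizer (N : Set H)) :
    ∃ q m : ℕ, (∃ j, q = p ^ j) ∧ 1 < q ∧ Nat.card V = q ^ 2 ∧ Nat.card A ∣ q - 1 ∧
      Nat.card H = q ^ 2 - 1 ∧ m = Nat.card ψ.range ∧ Nat.card A * m = q ^ 2 - 1 ∧ q + 1 ∣ m := by
  haveI : Finite (Module.End (ZMod p) V) :=
    Finite.of_injective (fun f : Module.End (ZMod p) V => (f : V → V)) DFunLike.coe_injective
  have hS := isInj_commutant hirr
  set q := Nat.card (commutant N) with hq
  have hq1 : 1 < q := by
    haveI := hS.isField.nontrivial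
    exact Finite.one_lt_card
  have hdvd : Nat.card A ∣ q - 1 :=
    (hS.isCyclic_and_card_dvd (K := A) fun a ha => commute_of_mem_commutant.2 (hcen ▸ ha)).2
  have hH : Nat.card H = q ^ 2 - 1 := by rw [card_eq hreg, hV]
  have hm : Nat.card A * Nat.card ψ.range = q ^ 2 - 1 := by
    rw [← hH, ← Subgroup.card_mul_index ψ.ker, Subgroup.index_ker, hψ, hcen]
  refine ⟨q, Nat.card ψ.range, ⟨_, natCard_eq_pow (commutant N)⟩, hq1, hV, hdvd, hH, rfl, hm, ?_⟩
  obtain ⟨d, hd⟩ := hdvd
  refine ⟨d, Nat.eq_of_mul_eq_mul_left (Nat.card_pos (α := A)) ?_⟩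
  rw [hm, ← one_pow 2, Nat.sq_sub_sq, hd]
  ring

end Regular

end CfsgLib.PermGroups
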