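import Mathlib.RingTheory.LittleWedderburn
import Mathlib.FieldTheory.Finite.Basic
import Mathlib.FieldTheory.Fixed
import Mathlib.FieldTheory.Finiteness
import Mathlib.GroupTheory.Solvable
import Mathlib.Algebra.Field.ZMod

/-!
Linear groups regular on the non-zero vectors: the algebras generated by normal subgroups and
their commutants.
-/

set_option autoImplicit false
set_option linter.style.haveILetI false
set_option linter.unusedSectionVars false

namespace CfsgLib.PermGroups.Regular

variable {p : ℕ} {V : Type*} [AddCommGroup V] [Module (ZMod p) V]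

/-- The representation of a linear group. -/
def endHom (H : Subgroup (V ≃ₗ[ZMod p] V)) : H →* Module.End (ZMod p) V where
  toFun h := ((h : V ≃ₗ[ZMod p] V) : V →ₗ[ZMod p] V)
  map_one' := rfl
  map_mul' _ _ := rfl

theorem endHom_apply (H : Subgroup (V ≃ₗ[ZMod p] V)) (h : H) (v : V) :
    endHom H h v = (h : V ≃ₗ[ZMod p] V) v := rfl

theorem endHom_injective (H : Subgroup (V ≃ₗ[ZMod p] V)) : Function.Injective (endHom H) :=
  fun _ _ e => Subtype.ext (LinearEquiv.ext fun v => LinearMap.congr_fun e v)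

/-- The subspace is invariant under the elements of `M`. -/
def InvUnder {H : Subgroup (V ≃ₗ[ZMod p] V)} (M : Subgroup H) (W : Submodule (ZMod p) V) : Prop :=
  ∀ a ∈ M, ∀ v ∈ W, ((a : H) : V ≃ₗ[ZMod p] V) v ∈ W

/-- The only invariant subspaces are the trivial ones. -/
def Irred {H : Subgroup (V ≃ₗ[ZMod p] V)} (M : Subgroup H) : Prop :=
  ∀ W : Submodule (ZMod p) V, InvUnder M W → W = ⊥ ∨ W = ⊤

/-- The algebra generated by `M`. -/
def alg {H : Subgroup (V ≃ₗ[ZMod p] V)} (M : Subgroup H) :
    Subalgebra (ZMod p) (Module.End (ZMod p) V) :=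
  Algebra.adjoin (ZMod p) (endHom H '' (M : Set H))

/-- The commutant of `M`. -/
def commutant {H : Subgroup (V ≃ₗ[ZMod p] V)} (M : Subgroup H) :
    Subalgebra (ZMod p) (Module.End (ZMod p) V) :=
  Subalgebra.centralizer (ZMod p) (endHom H '' (M : Set H))

/-- All non-zero elements are injective. -/
def IsInj (S : Subalgebra (ZMod p) (Module.End (ZMod p) V)) : Prop :=
  ∀ r ∈ S, ∀ v : V, v ≠ 0 → r v = 0 → r = 0

/-- The cyclic submodule generated by a vector. -/
def orb (S : Subalgebra (ZMod p) (Module.End (ZMod p) V)) (v : V) : Submodule (ZMod p) V :=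
  (Subalgebra.toSubmodule S).map (LinearMap.applyₗ v)

theorem mem_orb {S : Subalgebra (ZMod p) (Module.End (ZMod p) V)} {v u : V} :
    u ∈ orb S v ↔ ∃ r ∈ S, r v = u := by
  simp [orb]

theorem self_mem_orb (S : Subalgebra (ZMod p) (Module.End (ZMod p) V)) (v : V) : v ∈ orb S v :=
  mem_orb.2 ⟨1, S.one_mem, rfl⟩

theorem orb_le {S : Subalgebra (ZMod p) (Module.End (ZMod p) V)} {v u : V} (h : u ∈ orb S v) :
    orb S u ≤ orb S v := by
  intro x hx
  obtain ⟨s, hs, rfl⟩ := mem_orb.1 hx
  obtain ⟨r, hr, rfl⟩ := mem_orb.1 h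
  exact mem_orb.2 ⟨s * r, S.mul_mem hs hr, rfl⟩

theorem mem_alg {H : Subgroup (V ≃ₗ[ZMod p] V)} {M : Subgroup H} {a : H} (ha : a ∈ M) :
    endHom H a ∈ alg M :=
  Algebra.subset_adjoin ⟨a, ha, rfl⟩

theorem invUnder_orb {H : Subgroup (V ≃ₗ[ZMod p] V)} (M : Subgroup H) (v : V) :
    InvUnder M (orb (alg M) v) := by
  intro a ha u hu
  obtain ⟨r, hr, rfl⟩ := mem_orb.1 hu
  exact mem_orb.2 ⟨endHom H a * r, (alg M).mul_mem (mem_alg ha) hr, rfl⟩

theorem orb_le_of_invUnder {H : Subgroup (V ≃ₗ[ZMod p] V)} {M : Subgroup H}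
    {W : Submodule (ZMod p) V} (hW : InvUnder M W) {v : V} (hv : v ∈ W) : orb (alg M) v ≤ W := by
  intro u hu
  obtain ⟨r, hr, rfl⟩ := mem_orb.1 hu
  have key : ∀ r ∈ alg M, ∀ w ∈ W, r w ∈ W := by
    intro r hr
    induction hr using Algebra.adjoin_induction with
    | mem x hx =>
      obtain ⟨a, ha, rfl⟩ := hx
      exact hW a ha
    | algebraMap c => intro w hw; exact W.smul_mem c hw
    | add x y _ _ hx hy => intro w hw; exact W.add_mem (hx w hw) (hy w hw)
    | mul x y _ _ hx hy => intro w hw; exact hx _ (hy w hw)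
  exact key r hr v hv

theorem conj_mem_alg {H : Subgroup (V ≃ₗ[ZMod p] V)} {M : Subgroup H} (hM : M.Normal) (g : H)
    {r : Module.End (ZMod p) V} (hr : r ∈ alg M) :
    endHom H g * r * endHom H g⁻¹ ∈ alg M := by
  induction hr using Algebra.adjoin_induction with
  | mem x hx =>
    obtain ⟨a, ha, rfl⟩ := hx
    rw [← map_mul, ← map_mul]
    exact mem_alg (hM.conj_mem a ha g)
  | algebraMap c =>
    rw [← Algebra.commutes, mul_assoc, ← map_mul, mul_inv_cancel, map_one, mul_one]
    exact (alg M).algebraMap_mem c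
  | add x y _ _ hx hy => rw [mul_add, add_mul]; exact (alg M).add_mem hx hy
  | mul x y _ _ hx hy =>
    have e : endHom H g * (x * y) * endHom H g⁻¹ =
        (endHom H g * x * endHom H g⁻¹) * (endHom H g * y * endHom H g⁻¹) := by
      simp only [mul_assoc]
      rw [← mul_assoc (endHom H g⁻¹) (endHom H g), ← map_mul, inv_mul_cancel, map_one, one_mul]
    rw [e]; exact (alg M).mul_mem hx hy

variable [Fact p.Prime] [Finite V] {H : Subgroup (V ≃ₗ[ZMod p] V)}
  (hreg : ∀ v w : V, v ≠ 0 → w ≠ 0 → ∃! h : H, (h : V ≃ₗ[ZMod p] V) v = w)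

include hreg

theorem eq_one_of_fix {h : H} {v : V} (hv : v ≠ 0) (he : (h : V ≃ₗ[ZMod p] V) v = v) : h = 1 := by
  obtain ⟨u, -, hu⟩ := hreg v v hv hv
  exact (hu h he).trans (hu 1 rfl).symm

theorem endHom_fpf : ∀ h : H, h ≠ 1 → ∀ v : V, endHom H h v = v → v = 0 :=
  fun _ hh _ he => by_contra fun hv => hh (eq_one_of_fix hreg hv he)

theorem card_eq [Nontrivial V] : Nat.card H = Nat.card V - 1 := by
  classical
  haveI := Fintype.ofFinite V
  obtain ⟨v, hv⟩ := exists_ne (0 : V)
  have hb : Function.Bijective (fun h : H =>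
      (⟨(h : V ≃ₗ[ZMod p] V) v, (LinearEquiv.map_ne_zero_iff _).2 hv⟩ : {w : V // w ≠ 0})) := by
    constructor
    · intro a b hab
      obtain ⟨u, -, hu⟩ := hreg v _ hv ((LinearEquiv.map_ne_zero_iff (a : V ≃ₗ[ZMod p] V)).2 hv)
      exact (hu a rfl).trans (hu b (congrArg Subtype.val hab).symm).symm
    · rintro ⟨w, hw⟩
      obtain ⟨h, hh, -⟩ := hreg v w hv hw
      exact ⟨h, Subtype.ext hh⟩
  rw [Nat.card_eq_of_bijective _ hb, Nat.card_eq_fintype_card, Fintype.card_subtype_compl,
    Fintype.card_subtype_eq, Nat.card_eq_fintype_card]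

/-- The cyclic submodules of a normal subgroup are simple. -/
theorem mem_orb_symm {M : Subgroup H} (hM : M.Normal) {v u : V} (hu : u ∈ orb (alg M) v)
    (hu0 : u ≠ 0) : v ∈ orb (alg M) u := by
  classical
  have hv : v ≠ 0 := fun h => hu0 (by obtain ⟨r, -, rfl⟩ := mem_orb.1 hu; rw [h, map_zero])
  let S := {W : Submodule (ZMod p) V | W ≠ ⊥ ∧ InvUnder M W}
  obtain ⟨W, ⟨hW0, hWi⟩, hmin⟩ := (wellFounded_lt (α := Submodule (ZMod p) V)).has_min S
    ⟨⊤, fun h => hv ((Submodule.mem_bot (ZMod p)).1 (h ▸ Submodule.mem_top)),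
      fun _ _ _ _ => Submodule.mem_top⟩
  obtain ⟨w, hw, hw0⟩ := Submodule.exists_mem_ne_zero_of_ne_bot hW0
  obtain ⟨h, hh, -⟩ := hreg w v hw0 hv
  -- move the question to `W`
  have hmove : ∀ (g : H) (x y : V), y ∈ orb (alg M) x →
      (g : V ≃ₗ[ZMod p] V) y ∈ orb (alg M) ((g : V ≃ₗ[ZMod p] V) x) := by
    intro g x y hy
    obtain ⟨r, hr, rfl⟩ := mem_orb.1 hy
    refine mem_orb.2 ⟨endHom H g * r * endHom H g⁻¹, ?_, ?_⟩
    · exact conj_mem_alg hM g hr
    · have e : endHom H g⁻¹ ((g : V ≃ₗ[ZMod p] V) x) = x := by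
        rw [← endHom_apply, ← Module.End.mul_apply, ← map_mul, inv_mul_cancel, map_one]; rfl
      simp only [Module.End.mul_apply, e]
      rfl
  set u' := endHom H h⁻¹ u with hu'
  have hv' : endHom H h⁻¹ v = w := by
    rw [← hh, ← endHom_apply, ← Module.End.mul_apply, ← map_mul, inv_mul_cancel, map_one]; rfl
  have hu'W : u' ∈ W := by
    refine orb_le_of_invUnder hWi hw ?_
    rw [← hv']
    exact hmove h⁻¹ v u hu
  have hback : (h : V ≃ₗ[ZMod p] V) u' = u := by
    rw [hu', ← endHom_apply, ← Module.End.mul_apply, ← map_mul, mul_inv_cancel, map_one]; rfl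
  have hWeq : orb (alg M) u' = W := by
    by_contra hne
    refine hmin (orb (alg M) u') ⟨fun hb => ?_, invUnder_orb M u'⟩
      (lt_of_le_of_ne (orb_le_of_invUnder hWi hu'W) hne)
    have := self_mem_orb (alg M) u'
    rw [hb, Submodule.mem_bot] at this
    rw [this, map_zero] at hback
    exact hu0 hback.symm
  have := hmove h u' w (hWeq.symm ▸ hw)
  rwa [hh, hback] at this

/-- A normal subgroup is irreducible or generates a division algebra. -/
theorem irred_or_isInj {M : Subgroup H} (hM : M.Normal) : Irred M ∨ IsInj (alg M) := by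
  by_cases h : ∃ v : V, v ≠ 0 ∧ orb (alg M) v = ⊤
  · obtain ⟨v, hv, hvt⟩ := h
    refine Or.inl fun W hW => or_iff_not_imp_left.2 fun hne => ?_
    obtain ⟨u, hu, hu0⟩ := Submodule.exists_mem_ne_zero_of_ne_bot hne
    rw [eq_top_iff, ← hvt]
    exact orb_le_of_invUnder hW
      (orb_le_of_invUnder hW hu (mem_orb_symm hreg hM (hvt ▸ Submodule.mem_top) hu0))
  · push Not at h
    right
    intro r hr v hv hrv
    have hout : ∀ w, w ∉ orb (alg M) v → r w = 0 := by
      intro w hw
      by_contra hne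
      have hx : r (v + w) = r w := by rw [map_add, hrv, zero_add]
      have h1 : v + w ∈ orb (alg M) (r w) :=
        mem_orb_symm hreg hM (mem_orb.2 ⟨r, hr, hx⟩) hne
      have h2 : v + w ∈ orb (alg M) w := orb_le (mem_orb.2 ⟨r, hr, rfl⟩) h1
      have h3 : v ∈ orb (alg M) w := by
        have := Submodule.sub_mem _ h2 (self_mem_orb (alg M) w)
        rwa [add_sub_cancel_right] at this
      exact hw (mem_orb_symm hreg hM h3 hv)
    obtain ⟨u, -, hu⟩ := SetLike.exists_of_lt (lt_top_iff_ne_top.2 (h v hv))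
    ext w
    rw [LinearMap.zero_apply]
    by_cases hw : w ∈ orb (alg M) v
    · have h4 := hout (u + w) (fun h' => hu (by simpa using Submodule.sub_mem _ h' hw))
      rwa [map_add, hout u hu, zero_add] at h4
    · exact hout w hw

omit hreg in
theorem isInj_commutant {M : Subgroup H} (hirr : Irred M) : IsInj (commutant M) := by
  intro r hr v hv hrv
  rcases hirr (LinearMap.ker r) (fun a ha u hu => by
      rw [LinearMap.mem_ker] at hu ⊢
      have h1 := LinearMap.congr_fun (Subalgebra.mem_centralizer_iff (R := ZMod p) |>.1 hr _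
        ⟨a, ha, rfl⟩) u
      simp only [Module.End.mul_apply, hu, map_zero] at h1
      exact h1.symm) with h | h
  · exact absurd ((Submodule.mem_bot _).1 (h ▸ LinearMap.mem_ker.2 hrv)) hv
  · exact LinearMap.ker_eq_top.1 h

/-- An abelian normal subgroup generates a field. -/
theorem isInj_of_abelian {M : Subgroup H} (hM : M.Normal) (hc : IsMulCommutative M) :
    IsInj (alg M) := by
  rcases irred_or_isInj hreg hM with h | h
  · refine fun r hr => isInj_commutant h r ?_
    refine (Algebra.adjoin_le ?_) hr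
    rintro _ ⟨a, ha, rfl⟩
    refine Subalgebra.mem_centralizer_iff (R := ZMod p) |>.2 ?_
    rintro _ ⟨b, hb, rfl⟩
    rw [← map_mul, ← map_mul]
    exact congrArg (endHom H) (congrArg Subtype.val (hc.is_comm.comm (⟨b, hb⟩ : M) ⟨a, ha⟩))
  · exact h

omit hreg in
/-- A finite algebra of injective endomorphisms is a field. -/
theorem IsInj.isField [Nontrivial V] {S : Subalgebra (ZMod p) (Module.End (ZMod p) V)}
    (hS : IsInj S) : IsField S := by
  haveI : Finite (Module.End (ZMod p) V) :=
    Finite.of_injective (fun f : Module.End (ZMod p) V => (f : V → V)) DFunLike.coe_injective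
  haveI : NoZeroDivisors S := ⟨fun {a b} hab => by
    by_cases hb : (b : Module.End (ZMod p) V) = 0
    · exact Or.inr (Subtype.ext hb)
    obtain ⟨v, hv⟩ : ∃ v, (b : Module.End (ZMod p) V) v ≠ 0 := by
      by_contra h; push Not at h; exact hb (LinearMap.ext h)
    exact Or.inl (Subtype.ext (hS a a.2 _ hv (LinearMap.congr_fun (congrArg Subtype.val hab) v)))⟩
  haveI : IsDomain S := NoZeroDivisors.to_isDomain S
  exact Finite.isDomain_to_isField S

omit hreg in
theorem IsInj.comm [Nontrivial V] {S : Subalgebra (ZMod p) (Module.End (ZMod p) V)} (hS : IsInj S)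
    {a b : Module.End (ZMod p) V} (ha : a ∈ S) (hb : b ∈ S) : a * b = b * a :=
  congrArg Subtype.val (hS.isField.mul_comm ⟨a, ha⟩ ⟨b, hb⟩)

omit hreg in
theorem finrank_orb [Nontrivial V] {S : Subalgebra (ZMod p) (Module.End (ZMod p) V)} (hS : IsInj S)
    {v : V} (hv : v ≠ 0) :
    Module.finrank (ZMod p) (orb S v) = Module.finrank (ZMod p) S := by
  let f : S →ₗ[ZMod p] orb S v :=
    (((LinearMap.applyₗ v).comp (Subalgebra.toSubmodule S).subtype).codRestrict (orb S v)
      fun r => mem_orb.2 ⟨r.1, r.2, rfl⟩)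
  have hb : Function.Bijective f := by
    constructor
    · intro a b hab
      have h : (a.1 - b.1) v = 0 := by
        rw [LinearMap.sub_apply]; exact sub_eq_zero.2 (congrArg Subtype.val hab)
      exact Subtype.ext (sub_eq_zero.1 (hS _ (S.sub_mem a.2 b.2) v hv h))
    · rintro ⟨u, hu⟩
      obtain ⟨r, hr, rfl⟩ := mem_orb.1 hu
      exact ⟨⟨r, hr⟩, rfl⟩
  exact (LinearEquiv.ofBijective f hb).finrank_eq.symm

omit hreg in
/-- A subgroup inside an algebra of injective endomorphisms is cyclic of order dividing the number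
of units. -/
theorem IsInj.isCyclic_and_card_dvd [Nontrivial V]
    {S : Subalgebra (ZMod p) (Module.End (ZMod p) V)} (hS : IsInj S) {K : Subgroup H}
    (hK : ∀ a ∈ K, endHom H a ∈ S) : IsCyclic K ∧ Nat.card K ∣ Nat.card S - 1 := by
  haveI : Finite (Module.End (ZMod p) V) :=
    Finite.of_injective (fun f : Module.End (ZMod p) V => (f : V → V)) DFunLike.coe_injective
  letI : Field S := hS.isField.toField
  haveI : Finite H := Finite.of_injective (endHom H) (endHom_injective H)
  let f : K →* S :=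
    { toFun := fun a => ⟨endHom H a, hK a a.2⟩
      map_one' := Subtype.ext (map_one _)
      map_mul' := fun a b => Subtype.ext (map_mul _ _ _) }
  have hf : Function.Injective f := fun a b h =>
    Subtype.ext (endHom_injective H (congrArg Subtype.val h))
  refine ⟨isCyclic_of_injective_ringHom f hf, ?_⟩
  have hu : Function.Injective f.toHomUnits := fun a b h => hf (congrArg Units.val h)
  have := Subgroup.card_dvd_of_injective _ hu
  rwa [Nat.card_units] at this

omit hreg in
theorem natCard_eq_pow (S : Subalgebra (ZMod p) (Module.End (ZMod p) V)) :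
    Nat.card S = p ^ Module.finrank (ZMod p) S := by
  rw [Module.natCard_eq_pow_finrank (K := ZMod p), Nat.card_zmod]

omit hreg in
theorem commute_of_mem_commutant {M : Subgroup H} {g : H} :
    endHom H g ∈ commutant M ↔ g ∈ Subgroup.centralizer (M : Set H) := by
  rw [commutant, Subalgebra.mem_centralizer_iff (R := ZMod p), Subgroup.mem_centralizer_iff]
  constructor
  · intro h a ha
    exact endHom_injective H (by rw [map_mul, map_mul]; exact h _ ⟨a, ha, rfl⟩)
  · rintro h _ ⟨a, ha, rfl⟩
    rw [← map_mul, ← map_mul, h a ha]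

omit hreg in
/-- The centraliser of an irreducible normal subgroup is cyclic. -/
theorem isCyclic_centralizer [Nontrivial V] {M : Subgroup H} (hirr : Irred M) :
    IsCyclic (Subgroup.centralizer (M : Set H)) :=
  ((isInj_commutant hirr).isCyclic_and_card_dvd fun _ ha => commute_of_mem_commutant.2 ha).1

omit hreg in
theorem not_irred_of {M : Subgroup H} {W : Submodule (ZMod p) V} (hW : InvUnder M W) (h0 : W ≠ ⊥)
    (h1 : W ≠ ⊤) : ¬ Irred M := fun h => (h W hW).elim h0 h1

/-- A non-abelian normal subgroup is irreducible. -/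
theorem irred_of_nonabelian [Nontrivial V] {M : Subgroup H} (hM : M.Normal)
    (hna : ¬ IsMulCommutative M) : Irred M := by
  refine (irred_or_isInj hreg hM).resolve_right fun h => hna (IsMulCommutative.of_comm fun a b => ?_)
  exact Subtype.ext (endHom_injective H (by
    rw [Subgroup.coe_mul, Subgroup.coe_mul, map_mul, map_mul]
    exact h.comm (mem_alg a.2) (mem_alg b.2)))

/-- The conjugation action on the field generated by an abelian normal subgroup. -/
theorem exists_hom_algEquiv [Nontrivial V] {A : Subgroup H} (hA : A.Normal)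
    (hc : IsMulCommutative A) :
    ∃ ψ : H →* (alg A ≃ₐ[ZMod p] alg A),
      ψ.ker = Subgroup.centralizer (A : Set H) ∧ Finite (alg A ≃ₐ[ZMod p] alg A) ∧
        Nat.card (alg A ≃ₐ[ZMod p] alg A) ≤ Module.finrank (ZMod p) (alg A) ∧
        IsMulCommutative (alg A ≃ₐ[ZMod p] alg A) := by
  haveI : Finite (Module.End (ZMod p) V) :=
    Finite.of_injective (fun f : Module.End (ZMod p) V => (f : V → V)) DFunLike.coe_injective
  have hS := isInj_of_abelian hreg hA hc
  have hconj : ∀ (g : H), ∀ r ∈ alg A, endHom H g * r * endHom H g⁻¹ ∈ alg A :=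
    fun g _ hr => conj_mem_alg hA g hr
  have hgg : ∀ g : H, endHom H g * endHom H g⁻¹ = 1 := fun g => by
    rw [← map_mul, mul_inv_cancel, map_one]
  have hgg' : ∀ g : H, endHom H g⁻¹ * endHom H g = 1 := fun g => by
    rw [← map_mul, inv_mul_cancel, map_one]
  let c : H → (alg A ≃ₐ[ZMod p] alg A) := fun g =>
    { toFun := fun r => ⟨endHom H g * r * endHom H g⁻¹, hconj g r r.2⟩
      invFun := fun r => ⟨endHom H g⁻¹ * r * endHom H g, by simpa using hconj g⁻¹ r r.2⟩
      left_inv := fun r => Subtype.ext (by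
        show endHom H g⁻¹ * (endHom H g * (r : Module.End (ZMod p) V) * endHom H g⁻¹) * endHom H g = r
        simp only [mul_assoc, hgg', mul_one, ← mul_assoc (endHom H g⁻¹) (endHom H g), one_mul])
      right_inv := fun r => Subtype.ext (by
        show endHom H g * (endHom H g⁻¹ * (r : Module.End (ZMod p) V) * endHom H g) * endHom H g⁻¹ = r
        simp only [mul_assoc, hgg, mul_one, ← mul_assoc (endHom H g) (endHom H g⁻¹), one_mul])
      map_mul' := fun a b => Subtype.ext (by
        show endHom H g * (a.1 * b.1) * endHom H g⁻¹ =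
          (endHom H g * a.1 * endHom H g⁻¹) * (endHom H g * b.1 * endHom H g⁻¹)
        simp only [mul_assoc]
        rw [← mul_assoc (endHom H g⁻¹) (endHom H g), hgg', one_mul])
      map_add' := fun a b => Subtype.ext (by
        show endHom H g * (a.1 + b.1) * endHom H g⁻¹ = _
        rw [mul_add, add_mul]; rfl)
      commutes' := fun r => Subtype.ext (by
        show endHom H g * algebraMap (ZMod p) _ r * endHom H g⁻¹ = algebraMap (ZMod p) _ r
        rw [← Algebra.commutes, mul_assoc, hgg, mul_one]) }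
  let ψ : H →* (alg A ≃ₐ[ZMod p] alg A) := MonoidHom.mk' c fun g h => AlgEquiv.ext fun r =>
    Subtype.ext (by
      show endHom H (g * h) * r.1 * endHom H (g * h)⁻¹ =
        endHom H g * (endHom H h * r.1 * endHom H h⁻¹) * endHom H g⁻¹
      rw [mul_inv_rev, map_mul, map_mul]; simp only [mul_assoc])
  letI instF : Field (alg A) := hS.isField.toField
  letI instA : Algebra (ZMod p) (alg A) := inferInstance
  refine ⟨ψ, ?_, inferInstance, ?_, ?_⟩
  · ext g
    constructor
    · intro hg
      rw [Subgroup.mem_centralizer_iff]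
      intro a ha
      have h1 : endHom H g * endHom H a * endHom H g⁻¹ = endHom H a :=
        congrArg Subtype.val (AlgEquiv.congr_fun (MonoidHom.mem_ker.1 hg) ⟨_, mem_alg ha⟩)
      refine (endHom_injective H ?_).symm
      calc endHom H (g * a) = endHom H g * endHom H a * endHom H g⁻¹ * endHom H g := by
            rw [mul_assoc _ (endHom H g⁻¹), hgg', mul_one, map_mul]
        _ = endHom H (a * g) := by rw [h1, map_mul]
    · intro hg
      rw [MonoidHom.mem_ker]
      refine AlgEquiv.ext fun r => Subtype.ext ?_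
      show endHom H g * r.1 * endHom H g⁻¹ = r.1
      have hcomm : endHom H g * r.1 = r.1 * endHom H g := by
        have hg' : endHom H g ∈ commutant A := commute_of_mem_commutant.2 hg
        have hle : alg A ≤ Subalgebra.centralizer (ZMod p) {endHom H g} := by
          refine Algebra.adjoin_le ?_
          rintro _ ⟨a, ha, rfl⟩
          refine Subalgebra.mem_centralizer_iff (R := ZMod p) |>.2 ?_
          rintro _ rfl
          exact ((Subalgebra.mem_centralizer_iff (R := ZMod p)).1 hg' _ ⟨a, ha, rfl⟩).symm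
        exact (Subalgebra.mem_centralizer_iff (R := ZMod p)).1 (hle r.2) _ rfl
      rw [hcomm, mul_assoc, hgg, mul_one]
  · rw [Nat.card_eq_fintype_card]
    exact AlgEquiv.card_le
  · obtain ⟨g, hg⟩ := IsCyclic.exists_generator (α := alg A ≃ₐ[ZMod p] alg A)
    refine IsMulCommutative.of_comm fun a b => ?_
    obtain ⟨i, rfl⟩ := Subgroup.mem_zpowers_iff.1 (hg a)
    obtain ⟨j, rfl⟩ := Subgroup.mem_zpowers_iff.1 (hg b)
    rw [← zpow_add, ← zpow_add, add_comm]

/-- With an abelian irreducible normal subgroup the group is soluble. -/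
theorem isSolvable_of_irred_abelian [Nontrivial V] {A : Subgroup H} (hA : A.Normal)
    (hc : IsMulCommutative A) (hirr : Irred A) : Group.IsSolvable H := by
  obtain ⟨ψ, hψ, -, -, hcomm⟩ := exists_hom_algEquiv hreg hA hc
  haveI := isCyclic_centralizer hirr
  haveI : Group.IsSolvable (Subgroup.centralizer (A : Set H)) :=
    Group.isSolvable_of_comm fun a b => by
      letI := IsCyclic.commGroup (α := Subgroup.centralizer (A : Set H))
      exact mul_comm a b
  haveI : Group.IsSolvable (alg A ≃ₐ[ZMod p] alg A) :=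
    Group.isSolvable_of_comm fun a b => hcomm.is_comm.comm a b
  exact Group.isSolvable_of_ker_le_range (Subgroup.centralizer (A : Set H)).subtype ψ
    (by rw [hψ, Subgroup.range_subtype])

end CfsgLib.PermGroups.Regular

namespace CfsgLib.PermGroups.Regular

variable {p : ℕ} {V : Type*} [AddCommGroup V] [Module (ZMod p) V] [Fact p.Prime] [Finite V]
  {H : Subgroup (V ≃ₗ[ZMod p] V)}

/-- The hypothesis excluding the semilinear groups. -/
def NoIrredCyclic (H : Subgroup (V ≃ₗ[ZMod p] V)) : Prop :=
  ∀ A : Subgroup H, A.Normal → IsCyclic A → ∃ W : Submodule (ZMod p) V, W ≠ ⊥ ∧ W ≠ ⊤ ∧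
    ∀ a ∈ A, ∀ v ∈ W, ((a : H) : V ≃ₗ[ZMod p] V) v ∈ W

theorem nontrivial_of_noIrredCyclic (hI : NoIrredCyclic H) : Nontrivial V := by
  obtain ⟨W, hW0, -, -⟩ := hI ⊥ inferInstance inferInstance
  by_contra h
  haveI : Subsingleton V := not_nontrivial_iff_subsingleton.1 h
  exact hW0 ((Submodule.eq_bot_iff W).2 fun x _ => Subsingleton.elim _ _)

variable (hreg : ∀ v w : V, v ≠ 0 → w ≠ 0 → ∃! h : H, (h : V ≃ₗ[ZMod p] V) v = w)
  (hI : NoIrredCyclic H)

include hreg hI

/-- An abelian normal subgroup is cyclic, reducible, and its field has degree at most half of the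
dimension. -/
theorem abelian_normal_data {A : Subgroup H} (hA : A.Normal) (hc : IsMulCommutative A) :
    IsCyclic A ∧ Nat.card A ∣ p ^ Module.finrank (ZMod p) (alg A) - 1 ∧
      2 * Module.finrank (ZMod p) (alg A) ≤ Module.finrank (ZMod p) V ∧
      ∀ v : V, v ≠ 0 → orb (alg A) v ≠ ⊤ := by
  haveI := nontrivial_of_noIrredCyclic hI
  haveI : Module.Finite (ZMod p) V := Module.Finite.of_finite
  have hS := isInj_of_abelian hreg hA hc
  obtain ⟨hcyc, hcard⟩ := hS.isCyclic_and_card_dvd (fun a ha => mem_alg (M := A) ha)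
  rw [natCard_eq_pow] at hcard
  obtain ⟨W, hW0, hW1, hW⟩ := hI A hA hcyc
  have htop : ∀ v : V, v ≠ 0 → orb (alg A) v ≠ ⊤ := by
    intro v hv htop
    obtain ⟨u, hu, hu0⟩ := Submodule.exists_mem_ne_zero_of_ne_bot hW0
    apply hW1
    rw [eq_top_iff, ← htop]
    exact orb_le_of_invUnder hW (orb_le_of_invUnder hW hu
      (mem_orb_symm hreg hA (htop ▸ Submodule.mem_top) hu0))
  refine ⟨hcyc, hcard, ?_, htop⟩
  obtain ⟨v, hv⟩ := exists_ne (0 : V)
  obtain ⟨u, -, hu⟩ := SetLike.exists_of_lt (lt_top_iff_ne_top.2 (htop v hv))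
  have hu0 : u ≠ 0 := fun h => hu (h ▸ Submodule.zero_mem _)
  have hinf : orb (alg A) v ⊓ orb (alg A) u = ⊥ := by
    rw [Submodule.eq_bot_iff]
    rintro x ⟨h1, h2⟩
    by_contra hx
    exact hu (orb_le h1 (mem_orb_symm hreg hA h2 hx))
  have h1 := Submodule.finrank_sup_add_finrank_inf_eq (orb (alg A) v) (orb (alg A) u)
  rw [hinf, finrank_bot, finrank_orb hS hv, finrank_orb hS hu0] at h1
  have := Submodule.finrank_le (orb (alg A) v ⊔ orb (alg A) u)
  omega

/-- The centraliser of a maximal normal abelian subgroup is non-abelian. -/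
theorem centralizer_nonabelian {A : Subgroup H} (hA : A.Normal) (hc : IsMulCommutative A)
    (hmax : ∀ B : Subgroup H, B.Normal → IsMulCommutative B → A ≤ B → B = A) :
    A < Subgroup.centralizer (A : Set H) ∧
      ¬ IsMulCommutative (Subgroup.centralizer (A : Set H)) := by
  haveI := nontrivial_of_noIrredCyclic hI
  haveI := hA
  haveI : Module.Finite (ZMod p) V := Module.Finite.of_finite
  haveI : Finite (Module.End (ZMod p) V) :=
    Finite.of_injective (fun f : Module.End (ZMod p) V => (f : V → V)) DFunLike.coe_injective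
  haveI : Finite H := Finite.of_injective (endHom H) (endHom_injective H)
  have hle : A ≤ Subgroup.centralizer (A : Set H) := fun a ha => Subgroup.mem_centralizer_iff.2
    fun b hb => congrArg Subtype.val (hc.is_comm.comm (⟨b, hb⟩ : A) ⟨a, ha⟩)
  suffices hne : Subgroup.centralizer (A : Set H) ≠ A by
    exact ⟨lt_of_le_of_ne hle hne.symm,
      fun hC => hne (hmax _ inferInstance hC hle)⟩
  intro heq
  obtain ⟨ψ, hψ, hfin, hcardψ, -⟩ := exists_hom_algEquiv hreg hA hc
  obtain ⟨-, hdvd, h2k, -⟩ := abelian_normal_data hreg hI hA hc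
  set k := Module.finrank (ZMod p) (alg A) with hk
  set n := Module.finrank (ZMod p) V with hn
  have hk0 : 0 < k := by
    haveI := (isInj_of_abelian hreg hA hc).isField.nontrivial
    haveI : Finite (Module.End (ZMod p) V) :=
      Finite.of_injective (fun f : Module.End (ZMod p) V => (f : V → V)) DFunLike.coe_injective
    exact Module.finrank_pos
  have hH : Nat.card H = p ^ n - 1 := by
    rw [card_eq hreg, Module.natCard_eq_pow_finrank (K := ZMod p), Nat.card_zmod]
  have h1 : Nat.card H ≤ k * Nat.card A := by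
    have := Subgroup.card_mul_index ψ.ker
    rw [Subgroup.index_ker, hψ, heq] at this
    rw [← this, mul_comm k]
    exact Nat.mul_le_mul_left _ ((Nat.card_le_card_of_injective _ Subtype.coe_injective).trans hcardψ)
  have hpk : 1 < p ^ k := Nat.one_lt_pow hk0.ne' (Fact.out : p.Prime).one_lt
  have h2 : Nat.card A ≤ p ^ k - 1 := Nat.le_of_dvd (by omega) hdvd
  have h3 : p ^ (2 * k) ≤ p ^ n := Nat.pow_le_pow_right (Fact.out : p.Prime).pos h2k
  have h4 : k < p ^ k := Nat.lt_pow_self (Fact.out : p.Prime).one_lt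
  rw [hH] at h1
  have h5 := h1.trans (Nat.mul_le_mul_left k h2)
  rw [two_mul, pow_add] at h3
  obtain ⟨x, hx⟩ : ∃ x, p ^ k = x + 1 := ⟨p ^ k - 1, by omega⟩
  rw [hx] at h3 h4 h5
  simp only [Nat.add_sub_cancel] at h5
  have : (k + 1) * x ≤ (x + 1) * x := Nat.mul_le_mul_right _ (by omega)
  have hx0 : 0 < x := by omega
  nlinarith [Nat.sub_add_cancel (show 1 ≤ p ^ n from Nat.one_le_pow _ _ (Fact.out : p.Prime).pos)]

end CfsgLib.PermGroups.Regular
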