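import Cfsg.Agent.Lib.PermGroups.RegularField
import Cfsg.Agent.Lib.PermGroups.Zassenhaus.Main

/-!
Linear groups regular on non-zero vectors without irreducible cyclic normal subgroups: the
minimal non-abelian normal subgroups.
-/

set_option autoImplicit false
set_option linter.style.haveILetI false
set_option linter.unusedSectionVars false

open scoped MatrixGroups commutatorElement

namespace CfsgLib.PermGroups.Regular

variable {p : ℕ} {V : Type*} [AddCommGroup V] [Module (ZMod p) V] [Fact p.Prime] [Finite V]
  {H : Subgroup (V ≃ₗ[ZMod p] V)}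
  (hreg : ∀ v w : V, v ≠ 0 → w ≠ 0 → ∃! h : H, (h : V ≃ₗ[ZMod p] V) v = w)

instance finite_linear : Finite H := by
  haveI : Finite (Module.End (ZMod p) V) :=
    Finite.of_injective (fun f : Module.End (ZMod p) V => (f : V → V)) DFunLike.coe_injective
  exact Finite.of_injective (endHom H) (endHom_injective H)

include hreg

theorem natCast_card_ne_zero [Nontrivial V] (K : Subgroup H) :
    ((Nat.card K : ℕ) : ZMod p) ≠ 0 := by
  intro h
  have h1 : p ∣ Nat.card H := ((ZMod.natCast_eq_zero_iff _ _).1 h).trans K.card_subgroup_dvd_card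
  have hV : p ∣ Nat.card V := by
    rw [Module.natCard_eq_pow_finrank (K := ZMod p), Nat.card_zmod]
    haveI : Module.Finite (ZMod p) V := Module.Finite.of_finite
    exact dvd_pow_self p (Module.finrank_pos.ne')
  rw [card_eq hreg] at h1
  have h2 := Nat.dvd_sub hV h1
  have hpos : 0 < Nat.card V := Nat.card_pos
  rw [show Nat.card V - (Nat.card V - 1) = 1 by omega] at h2
  exact (Fact.out : p.Prime).one_lt.ne' (Nat.dvd_one.1 h2)

variable {A : Subgroup H} (hA : A.Normal) (hc : IsMulCommutative A)
  (hmax : ∀ B : Subgroup H, B.Normal → IsMulCommutative B → A ≤ B → B = A)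
  {N : Subgroup H} (hN : N.Normal) (hNle : N ≤ Subgroup.centralizer (A : Set H))
  (hna : ¬ IsMulCommutative N)

include hA hc hmax hN hNle hna

theorem centralizer_eq [Nontrivial V] : Subgroup.centralizer (N : Set H) = A := by
  haveI := hN
  have hcyc := isCyclic_centralizer (irred_of_nonabelian hreg hN hna)
  refine hmax _ inferInstance ?_ ?_
  · refine IsMulCommutative.of_comm fun a b => ?_
    letI := hcyc.commGroup
    exact mul_comm a b
  · exact fun a ha => Subgroup.mem_centralizer_iff.2 fun n hn =>
      (Subgroup.mem_centralizer_iff.1 (hNle hn) a ha).symm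

variable (hmin : ∀ M : Subgroup H, M.Normal → M ≤ N → ¬ IsMulCommutative M → M = N)

include hmin

/-- A minimal non-abelian normal subgroup is quaternion or perfect. -/
theorem quaternion_or_perfect [Nontrivial V] :
    Nonempty (N ≃* QuaternionGroup 2) ∨ commutator N = ⊤ := by
  haveI := hN
  by_cases hp : ⁅N, N⁆ = N
  · right
    apply Subgroup.map_injective N.subtype_injective
    rw [commutator_def, Subgroup.map_commutator, ← MonoidHom.range_eq_map, Subgroup.range_subtype,
      hp]
  left
  have hle : ⁅N, N⁆ ≤ N := Subgroup.commutator_le_self N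
  haveI : (⁅N, N⁆).Normal := Subgroup.commutator_normal N N
  have hNNc : IsMulCommutative (⁅N, N⁆ : Subgroup H) :=
    by_contra fun h => hp (hmin _ inferInstance hle h)
  -- the commutator subgroup lies in `A`, so is central in `N`
  haveI := hA
  have hgenc : IsMulCommutative (Subgroup.closure ((A : Set H) ∪ (⁅N, N⁆ : Subgroup H))) := by
    refine Subgroup.isMulCommutative_closure ?_
    rintro x (hx | hx) y (hy | hy)
    · exact congrArg Subtype.val (hc.is_comm.comm (⟨x, hx⟩ : A) ⟨y, hy⟩)
    · exact Subgroup.mem_centralizer_iff.1 (hNle (hle hy)) x hx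
    · exact (Subgroup.mem_centralizer_iff.1 (hNle (hle hx)) y hy).symm
    · exact congrArg Subtype.val (hNNc.is_comm.comm (⟨x, hx⟩ : (⁅N, N⁆ : Subgroup H)) ⟨y, hy⟩)
  have hsup : A ⊔ ⁅N, N⁆ = A := by
    refine hmax _ inferInstance ?_ le_sup_left
    rwa [Subgroup.sup_eq_closure]
  have hNA : ⁅N, N⁆ ≤ A := le_sup_right.trans hsup.le
  have hcen : commutator N ≤ Subgroup.center N := by
    intro x hx
    have h1 : (x : H) ∈ A := hNA (by
      have h2 := Subgroup.mem_map_of_mem N.subtype hx
      rwa [commutator_def, Subgroup.map_commutator, ← MonoidHom.range_eq_map,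
        Subgroup.range_subtype] at h2)
    exact Subgroup.mem_center_iff.2 fun y => Subtype.ext
      (Subgroup.mem_centralizer_iff.1 (hNle y.2) (x : H) h1).symm
  haveI : Group.IsNilpotent N := by
    refine Group.of_quotient_center_nilpotent ?_
    letI : CommGroup (N ⧸ Subgroup.center N) :=
      { (inferInstance : Group (N ⧸ Subgroup.center N)) with
        mul_comm := fun a b => by
          induction a using QuotientGroup.induction_on with | _ x => ?_
          induction b using QuotientGroup.induction_on with | _ y => ?_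
          rw [← QuotientGroup.mk_mul, ← QuotientGroup.mk_mul, QuotientGroup.eq]
          have h : ⁅y⁻¹, x⁻¹⁆ ∈ commutator N :=
            Subgroup.commutator_mem_commutator (Subgroup.mem_top _) (Subgroup.mem_top _)
          rw [commutatorElement_def] at h
          simpa [mul_assoc] using hcen h }
    exact CommGroup.isNilpotent
  let ρ : N →* Module.End (ZMod p) V := (endHom H).comp N.subtype
  have hρ : ∀ g : N, g ≠ 1 → ∀ v : V, ρ g v = v → v = 0 := fun g hg =>
    endHom_fpf hreg g fun h => hg (Subtype.ext h)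
  have hcard := natCast_card_ne_zero hreg N
  obtain ⟨q, hq, P, hP⟩ : ∃ q : ℕ, q.Prime ∧ ∃ P : Sylow q N, ¬ IsCyclic P := by
    by_contra h
    push Not at h
    haveI : IsZGroup N := ⟨fun q hq P => h q hq P⟩
    haveI : IsCyclic N := inferInstance
    exact hna (IsMulCommutative.of_comm fun a b => by
      letI := IsCyclic.commGroup (α := N)
      exact mul_comm a b)
  haveI : Fact q.Prime := ⟨hq⟩
  rcases fpf_isCyclic_or_quaternion ρ hρ hcard (P : Subgroup N) P.isPGroup' with
    h | ⟨rfl, m, hm, ⟨e⟩⟩
  · exact absurd h hP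
  haveI : (P : Subgroup N).Normal :=
    (((Group.isNilpotent_of_finite_tfae (G := N)).out 0 3 :
      Group.IsNilpotent N ↔ ∀ (r : ℕ) (_ : Fact r.Prime) (Q : Sylow r N), (Q : Subgroup N).Normal)).1
      inferInstance 2 ⟨Nat.prime_two⟩ P
  haveI : (P : Subgroup N).Characteristic := Sylow.characteristic_of_normal P inferInstance
  haveI : ((P : Subgroup N).map N.subtype).Normal := inferInstance
  have h2 : (4 : ℕ) ≤ 2 * 2 ^ m := by
    calc 4 = 2 * 2 ^ 1 := rfl
      _ ≤ _ := Nat.mul_le_mul_left _ (Nat.pow_le_pow_right (by norm_num) hm)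
  have hPna : ¬ IsMulCommutative (P : Subgroup N) := fun h => by
    have h1 := congrArg e (h.is_comm.comm (e.symm (.a 1)) (e.symm (.xa 0)))
    rw [map_mul, map_mul, MulEquiv.apply_symm_apply, MulEquiv.apply_symm_apply,
      QuaternionGroup.a_mul_xa, QuaternionGroup.xa_mul_a, QuaternionGroup.xa.injEq] at h1
    have h3 : ((2 : ℕ) : ZMod (2 * 2 ^ m)) = 0 := by push_cast; linear_combination -h1
    have := Nat.le_of_dvd (by norm_num) ((ZMod.natCast_eq_zero_iff _ _).1 h3)
    omega
  have hPtop : (P : Subgroup N).map N.subtype = N := by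
    refine hmin _ inferInstance (Subgroup.map_subtype_le _) fun h => hPna ?_
    refine IsMulCommutative.of_comm fun a b => Subtype.ext (N.subtype_injective ?_)
    have h1 := congrArg Subtype.val (h.is_comm.comm (⟨_, Subgroup.mem_map_of_mem N.subtype a.2⟩ :
      (P : Subgroup N).map N.subtype) ⟨_, Subgroup.mem_map_of_mem N.subtype b.2⟩)
    simp only [Subgroup.coe_mul, map_mul] at h1 ⊢
    exact h1
  let eN : N ≃* QuaternionGroup (2 ^ m) :=
    (((P : Subgroup N).equivMapOfInjective N.subtype N.subtype_injective).trans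
      (MulEquiv.subgroupCongr hPtop)).symm.trans e
  -- class two
  have hm1 : m = 1 := by
    have h0 : ⁅eN.symm (.a 1), eN.symm (.xa 0)⁆ ∈ Subgroup.center N :=
      hcen (Subgroup.commutator_mem_commutator (Subgroup.mem_top _) (Subgroup.mem_top _))
    have h := congrArg eN (Subgroup.mem_center_iff.1 h0 (eN.symm (.xa 0)))
    simp only [map_mul, map_commutatorElement, MulEquiv.apply_symm_apply] at h
    rw [commutatorElement_def,
      show (QuaternionGroup.a 1 : QuaternionGroup (2 ^ m))⁻¹ = .a (-1) from rfl,
      show (QuaternionGroup.xa 0 : QuaternionGroup (2 ^ m))⁻¹ = .xa ((2 ^ m : ℕ) + 0) from rfl,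
      QuaternionGroup.a_mul_xa, QuaternionGroup.xa_mul_a, QuaternionGroup.xa_mul_xa,
      QuaternionGroup.xa_mul_a, QuaternionGroup.a_mul_xa, QuaternionGroup.xa.injEq] at h
    have h4 : ((4 : ℕ) : ZMod (2 * 2 ^ m)) = 0 := by
      have hnn : ((2 * 2 ^ m : ℕ) : ZMod (2 * 2 ^ m)) = 0 := ZMod.natCast_self _
      push_cast at h hnn ⊢
      linear_combination h - 2 * hnn
    have hd := Nat.le_of_dvd (by norm_num) ((ZMod.natCast_eq_zero_iff _ _).1 h4)
    by_contra hm1
    have : 2 * 2 ^ 2 ≤ 2 * 2 ^ m := Nat.mul_le_mul_left _ (Nat.pow_le_pow_right (by norm_num) (by omega))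
    omega
  subst hm1
  exact ⟨eN⟩

/-- A minimal non-abelian normal subgroup is quaternion or `SL(2,5)`. -/
theorem quaternion_or_sl_two_five [Nontrivial V] :
    Nonempty (N ≃* QuaternionGroup 2) ∨ Nonempty (N ≃* SL(2, ZMod 5)) := by
  rcases quaternion_or_perfect hreg hA hc hmax hN hNle hna hmin with h | h
  · exact Or.inl h
  right
  haveI : Nontrivial N := by
    by_contra hn
    haveI : Subsingleton N := not_nontrivial_iff_subsingleton.1 hn
    exact hna (IsMulCommutative.of_comm fun a b => Subsingleton.elim _ _)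
  let φ : N →* MulAut (Multiplicative V) :=
    { toFun := fun g => AddEquiv.toMultiplicative ((g : H) : V ≃ₗ[ZMod p] V).toAddEquiv
      map_one' := MulEquiv.ext fun v => rfl
      map_mul' := fun a b => MulEquiv.ext fun v => rfl }
  exact equiv_sl_two_five_of_fpf_perfect φ (fun g hg v hv =>
    (congrArg Multiplicative.ofAdd (endHom_fpf hreg (g : H) (fun h' => hg (Subtype.ext h'))
      (Multiplicative.toAdd v) (congrArg Multiplicative.toAdd hv)) :)) h

end CfsgLib.PermGroups.Regular
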